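import Groth.Agent.SmAcyc.Core.Root
import Groth.Agent.S0596
import Mathlib.RingTheory.Etale.Basic
import Mathlib.RingTheory.Unramified.Basic
import Mathlib.RingTheory.Smooth.Basic
import Mathlib.RingTheory.PowerSeries.Trunc
import Mathlib.RingTheory.AdicCompletion.Algebra
import Mathlib.RingTheory.AdicCompletion.Completeness

/-!
# Formally étale algebras over a polynomial ring and power series
-/

set_option autoImplicit false
set_option linter.style.haveILetI false

universe u

namespace Groth.Agent.SmAcyc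

open PowerSeries IsLocalRing

variable {R S : Type u} [CommRing R] [CommRing S] [Algebra (Polynomial R) S]

/-- the section gives a map to power series -/
theorem exists_toPowerSeries [Algebra.FormallyEtale (Polynomial R) S] (σ : S →+* R)
    (hσ : σ.comp (algebraMap (Polynomial R) S) = Polynomial.evalRingHom 0) :
    ∃ Φ : S →+* R⟦X⟧, Φ.comp (algebraMap (Polynomial R) S) = Polynomial.coeToPowerSeries.ringHom ∧
      ∀ y, constantCoeff (Φ y) = σ y := by
  letI : Algebra (Polynomial R) R⟦X⟧ := Polynomial.coeToPowerSeries.ringHom.toAlgebra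
  let I : Ideal R⟦X⟧ := Ideal.span {X}
  have hI : ∀ y : R⟦X⟧, y ∈ I ↔ constantCoeff y = 0 := fun y => by rw [Ideal.mem_span_singleton, X_dvd_iff]
  let f₁ : S →ₐ[Polynomial R] R⟦X⟧ ⧸ I :=
    { ((Ideal.Quotient.mk I).comp (C : R →+* R⟦X⟧)).comp σ with
      commutes' := fun p => by
        show Ideal.Quotient.mk I (C (σ (algebraMap _ S p))) = Ideal.Quotient.mk I (p : R⟦X⟧)
        rw [Ideal.Quotient.eq, hI, map_sub, constantCoeff_C, show σ (algebraMap _ S p) = p.eval 0 from congr($hσ p),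
          Polynomial.constantCoeff_coe, ← Polynomial.coeff_zero_eq_eval_zero, sub_self] }
  have hnil : ∀ n, IsNilpotent (I.map (Ideal.Quotient.mk (I ^ (n + 1)))) := fun n =>
    ⟨n + 1, by rw [← Ideal.map_pow, Ideal.zero_eq_bot, Ideal.map_quotient_self]⟩
  have hex : ∀ n : ℕ, ∃! f : S →ₐ[Polynomial R] R⟦X⟧ ⧸ I ^ (n + 1),
      ∀ y, Ideal.Quotient.factor (S := I ^ (n + 1)) (T := I) (Ideal.pow_le_self (Nat.succ_ne_zero n)) (f y) = f₁ y := by
    intro n
    let F : (R⟦X⟧ ⧸ I ^ (n + 1)) →ₐ[Polynomial R] R⟦X⟧ ⧸ I :=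
      Ideal.Quotient.factorₐ (Polynomial R) (show I ^ (n + 1) ≤ I from Ideal.pow_le_self (Nat.succ_ne_zero n))
    have hF : Function.Surjective F := Ideal.Quotient.factor_surjective (Ideal.pow_le_self (Nat.succ_ne_zero n))
    have hk : IsNilpotent (RingHom.ker (F : (R⟦X⟧ ⧸ I ^ (n + 1)) →+* R⟦X⟧ ⧸ I)) := by
      rw [show RingHom.ker (F : (R⟦X⟧ ⧸ I ^ (n + 1)) →+* R⟦X⟧ ⧸ I) = I.map (Ideal.Quotient.mk (I ^ (n + 1))) from
        Ideal.Quotient.factor_ker (Ideal.pow_le_self (Nat.succ_ne_zero n))]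
      exact hnil n
    exact ⟨Algebra.FormallySmooth.liftOfSurjective f₁ F hF hk,
      fun y => Algebra.FormallySmooth.liftOfSurjective_apply f₁ F hF hk y,
      fun g hg => Algebra.FormallyUnramified.ext' (F : (R⟦X⟧ ⧸ I ^ (n + 1)) →+* R⟦X⟧ ⧸ I) hk _ _
        fun y => (hg y).trans (Algebra.FormallySmooth.liftOfSurjective_apply f₁ F hF hk y).symm⟩
  choose f hf hu using hex
  let g : (n : ℕ) → S →+* R⟦X⟧ ⧸ I ^ n := fun n =>
    (Ideal.Quotient.factor (Ideal.pow_le_pow_right (Nat.le_succ n))).comp (f n).toRingHom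
  have hfc : ∀ {m n : ℕ} (h : m ≤ n), ∀ y,
      Ideal.Quotient.factor (Ideal.pow_le_pow_right (Nat.succ_le_succ h)) (f n y) = f m y := fun {m n} h y => by
    have hle : I ^ (n + 1) ≤ I ^ (m + 1) := Ideal.pow_le_pow_right (Nat.succ_le_succ h)
    have e := hu m ((Ideal.Quotient.factorₐ (Polynomial R) hle).comp (f n)) fun z => by
      show Ideal.Quotient.factor (Ideal.pow_le_self (Nat.succ_ne_zero m)) (Ideal.Quotient.factor hle (f n z)) = _
      rw [Ideal.Quotient.factor_comp_apply]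
      exact hf n z
    exact congr($e y)
  have hg : ∀ {m n : ℕ} (h : m ≤ n), (Ideal.Quotient.factorPow I h).comp (g n) = g m := fun {m n} h =>
    RingHom.ext fun y => by
      show Ideal.Quotient.factor (Ideal.pow_le_pow_right h) (Ideal.Quotient.factor
        (Ideal.pow_le_pow_right (Nat.le_succ n)) (f n y)) =
          Ideal.Quotient.factor (Ideal.pow_le_pow_right (Nat.le_succ m)) (f m y)
      rw [← hfc h y, Ideal.Quotient.factor_comp_apply, Ideal.Quotient.factor_comp_apply]
  let Φ' : S →+* AdicCompletion I R⟦X⟧ := AdicCompletion.liftRingHom I g hg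
  let e : R⟦X⟧ ≃ₐ[R⟦X⟧] AdicCompletion I R⟦X⟧ := AdicCompletion.ofAlgEquiv I
  let Φ : S →+* R⟦X⟧ := e.symm.toRingHom.comp Φ'
  have hΦ : ∀ n y, Ideal.Quotient.mk (I ^ n) (Φ y) = g n y := fun n y => by
    have h1 : AdicCompletion.evalₐ I n (e (Φ y)) = g n y := by
      rw [show e (Φ y) = Φ' y from e.apply_symm_apply _]
      exact AdicCompletion.evalₐ_liftRingHom _ _ _ _ _
    rw [AdicCompletion.ofAlgEquiv_apply, AdicCompletion.evalₐ_of] at h1
    exact h1
  have hext : ∀ a b : R⟦X⟧, (∀ n, Ideal.Quotient.mk (I ^ n) a = Ideal.Quotient.mk (I ^ n) b) → a = b := fun a b h => by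
    refine sub_eq_zero.1 (IsHausdorff.haus (I := I) inferInstance _ fun n => ?_)
    rw [SModEq.zero, smul_eq_mul, Ideal.mul_top, ← Ideal.Quotient.eq]
    exact h n
  refine ⟨Φ, RingHom.ext fun p => hext _ _ fun n => ?_, fun y => ?_⟩
  · rw [RingHom.comp_apply, hΦ]
    show Ideal.Quotient.factor (Ideal.pow_le_pow_right (Nat.le_succ n)) (f n (algebraMap _ S p)) = _
    rw [(f n).commutes]
    rfl
  · have h1 := hΦ 1 y
    have h2 : Ideal.Quotient.factor (S := I ^ 1) (T := I) (pow_one I).le (Ideal.Quotient.mk (I ^ 1) (Φ y)) =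
        Ideal.Quotient.mk I (C (σ y)) := by
      rw [h1]
      show Ideal.Quotient.factor (pow_one I).le (Ideal.Quotient.factor (Ideal.pow_le_pow_right (Nat.le_succ 1))
        (f 1 y)) = _
      rw [Ideal.Quotient.factor_comp_apply]
      exact hf 1 y
    rw [Ideal.Quotient.factor_mk, Ideal.Quotient.eq, hI, map_sub, constantCoeff_C, sub_eq_zero] at h2
    exact h2

/-- the truncations give a map from power series to the completion -/
theorem exists_toCompletion [IsLocalRing S] (hX : algebraMap (Polynomial R) S Polynomial.X ∈ maximalIdeal S) :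
    ∃ Ψ : R⟦X⟧ →+* AdicCompletion (maximalIdeal S) S,
      (∀ p : Polynomial R, Ψ (p : R⟦X⟧) = AdicCompletion.of (maximalIdeal S) S (algebraMap (Polynomial R) S p)) ∧
      ∀ f : R⟦X⟧, AdicCompletion.evalₐ (maximalIdeal S) 1 (Ψ f) =
        Ideal.Quotient.mk _ (algebraMap (Polynomial R) S (Polynomial.C (constantCoeff f))) := by
  let m := maximalIdeal S
  let ι := algebraMap (Polynomial R) S
  have hz : ∀ (n : ℕ) (p : Polynomial R), (∀ d < n, p.coeff d = 0) → Ideal.Quotient.mk (m ^ n) (ι p) = 0 := fun n p hp => by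
    obtain ⟨q, rfl⟩ := Polynomial.X_pow_dvd_iff.2 hp
    rw [map_mul, map_pow, Ideal.Quotient.eq_zero_iff_mem]
    exact Ideal.mul_mem_right _ _ (Ideal.pow_mem_pow hX n)
  have heq : ∀ (n : ℕ) (p q : Polynomial R), (∀ d < n, p.coeff d = q.coeff d) →
      Ideal.Quotient.mk (m ^ n) (ι p) = Ideal.Quotient.mk (m ^ n) (ι q) := fun n p q h => by
    rw [← sub_eq_zero, ← map_sub, ← map_sub]
    exact hz n _ fun d hd => by rw [Polynomial.coeff_sub, h d hd, sub_self]
  let f : (n : ℕ) → R⟦X⟧ →+* S ⧸ m ^ n := fun n =>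
    { toFun := fun a => Ideal.Quotient.mk (m ^ n) (ι (trunc n a))
      map_one' := (heq n _ 1 fun d hd => by
        rw [coeff_trunc, if_pos hd, coeff_one, Polynomial.coeff_one]).trans (by rw [map_one, map_one])
      map_zero' := (heq n _ 0 fun d hd => by
        rw [coeff_trunc, if_pos hd, map_zero, Polynomial.coeff_zero]).trans (by rw [map_zero, map_zero])
      map_add' := fun a b => by
        rw [← map_add, ← map_add]
        refine heq n _ _ fun d hd => ?_
        simp [coeff_trunc, hd]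
      map_mul' := fun a b => by
        rw [← map_mul, ← map_mul]
        refine heq n _ _ fun d hd => ?_
        rw [coeff_trunc, if_pos hd, coeff_mul_eq_coeff_trunc_mul_trunc a b hd, ← Polynomial.coe_mul,
          Polynomial.coeff_coe] }
  have hf : ∀ {k n : ℕ} (h : k ≤ n), (Ideal.Quotient.factorPow m h).comp (f n) = f k := fun {k n} h =>
    RingHom.ext fun a => by
      show Ideal.Quotient.factor (Ideal.pow_le_pow_right h) (Ideal.Quotient.mk (m ^ n) (ι (trunc n a))) = _
      rw [Ideal.Quotient.factor_mk]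
      exact heq k _ _ fun d hd => by rw [coeff_trunc, coeff_trunc, if_pos hd, if_pos (hd.trans_le h)]
  refine ⟨AdicCompletion.liftRingHom m f hf, fun p => AdicCompletion.ext_evalₐ fun n => ?_, fun a => ?_⟩
  · rw [AdicCompletion.evalₐ_liftRingHom, AdicCompletion.evalₐ_of]
    exact heq n _ _ fun d hd => by rw [coeff_trunc, if_pos hd, Polynomial.coeff_coe]
  · rw [AdicCompletion.evalₐ_liftRingHom]
    exact heq 1 _ _ fun d hd => by
      obtain rfl : d = 0 := by omega
      rw [coeff_trunc, if_pos hd, Polynomial.coeff_C_zero, coeff_zero_eq_constantCoeff_apply]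

variable [IsLocalRing S] [IsNoetherianRing S] [Algebra.FormallyEtale (Polynomial R) S]

/-- the composite with the completion is the natural map -/
theorem exists_power_series (σ : S →+* R) (hσ : σ.comp (algebraMap (Polynomial R) S) = Polynomial.evalRingHom 0)
    [Nontrivial R] :
    ∃ (Φ : S →+* R⟦X⟧) (Ψ : R⟦X⟧ →+* AdicCompletion (maximalIdeal S) S),
      Function.Injective Φ ∧ (∀ p : Polynomial R, Φ (algebraMap (Polynomial R) S p) = (p : R⟦X⟧)) ∧
      (∀ y, constantCoeff (Φ y) = σ y) ∧ ∀ y, Ψ (Φ y) = AdicCompletion.of (maximalIdeal S) S y := by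
  let m := maximalIdeal S
  have hker : RingHom.ker σ ≤ m := le_maximalIdeal (RingHom.ker_ne_top σ)
  have hC : ∀ r : R, σ (algebraMap (Polynomial R) S (Polynomial.C r)) = r := fun r =>
    (congr($hσ (Polynomial.C r))).trans Polynomial.eval_C
  have hX : algebraMap (Polynomial R) S Polynomial.X ∈ m :=
    hker (RingHom.mem_ker.2 ((congr($hσ Polynomial.X)).trans Polynomial.eval_X))
  obtain ⟨Φ, hΦ, hΦ0⟩ := exists_toPowerSeries σ hσ
  obtain ⟨Ψ, hΨ, hΨ1⟩ := exists_toCompletion (R := R) (S := S) hX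
  have hp : ∀ p : Polynomial R, Φ (algebraMap (Polynomial R) S p) = (p : R⟦X⟧) := fun p => congr($hΦ p)
  have key : ∀ y, Ψ (Φ y) = AdicCompletion.of m S y := fun y => AdicCompletion.ext_evalₐ fun n => by
    rcases n with - | n
    · haveI : Subsingleton (S ⧸ m ^ 0) := Ideal.Quotient.subsingleton_iff.2 (by rw [pow_zero, Ideal.one_eq_top])
      exact Subsingleton.elim _ _
    rw [AdicCompletion.evalₐ_of]
    let g₁ : S →ₐ[Polynomial R] S ⧸ m ^ (n + 1) :=
      { (AdicCompletion.evalₐ m (n + 1)).toRingHom.comp (Ψ.comp Φ) with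
        commutes' := fun p => by
          show AdicCompletion.evalₐ m (n + 1) (Ψ (Φ _)) = _
          rw [hp, hΨ, AdicCompletion.evalₐ_of]
          rfl }
    have e : g₁ = Ideal.Quotient.mkₐ (Polynomial R) (m ^ (n + 1)) := by
      refine Algebra.FormallyUnramified.ext' (Ideal.Quotient.factor (Ideal.pow_le_self (I := m) (Nat.succ_ne_zero n)))
        ?_ _ _ fun y => ?_
      · rw [Ideal.Quotient.factor_ker]
        exact ⟨n + 1, by rw [← Ideal.map_pow, Ideal.zero_eq_bot, Ideal.map_quotient_self]⟩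
      have h1 : AdicCompletion.evalₐ m 1 (Ψ (Φ y)) = Ideal.Quotient.mk (m ^ 1) y := by
        rw [hΨ1, hΦ0, Ideal.Quotient.eq, pow_one]
        exact hker (RingHom.mem_ker.2 (by rw [map_sub, hC, sub_self]))
      obtain ⟨a, ha⟩ := Ideal.Quotient.mk_surjective (AdicCompletion.evalₐ m (n + 1) (Ψ (Φ y)))
      have h2 : AdicCompletion.evalₐ m 1 (Ψ (Φ y)) = Ideal.Quotient.mk (m ^ 1) a := by
        obtain ⟨c, hc⟩ := AdicCompletion.mk_surjective m S (Ψ (Φ y))
        rw [← hc, AdicCompletion.evalₐ_mk] at ha ⊢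
        rw [Ideal.Quotient.eq] at ha ⊢
        have hcc := c.2 (m := 1) (n := n + 1) (by omega)
        rw [SModEq.sub_mem, smul_eq_mul, Ideal.mul_top] at hcc
        have := Submodule.sub_mem _ hcc (Ideal.pow_le_pow_right (show 1 ≤ n + 1 by omega) ha)
        convert this using 1
        ring
      show Ideal.Quotient.factor _ (AdicCompletion.evalₐ m (n + 1) (Ψ (Φ y))) = _
      rw [← ha, Ideal.Quotient.factor_mk, Ideal.Quotient.mkₐ_eq_mk, Ideal.Quotient.factor_mk, Ideal.Quotient.eq]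
      rw [h2, Ideal.Quotient.eq, pow_one] at h1
      exact h1
    exact congr($e y)
  refine ⟨Φ, Ψ, fun a b hab => ?_, hp, hΦ0, key⟩
  have h := (key a).symm.trans ((congrArg Ψ hab).trans (key b))
  refine sub_eq_zero.1 (IsHausdorff.haus (I := m) inferInstance _ fun n => ?_)
  rw [SModEq.zero, smul_eq_mul, Ideal.mul_top, ← Ideal.Quotient.eq]
  have := congrArg (AdicCompletion.evalₐ m n) h
  rwa [AdicCompletion.evalₐ_of, AdicCompletion.evalₐ_of] at this

omit [IsLocalRing S] [IsNoetherianRing S] in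
/-- a root in power series gives a root -/
theorem exists_root [HenselianLocalRing S] [IsNoetherianRing S] [Nontrivial R] (hG : CAlg.IsGRing S) (σ : S →+* R)
    (hσ : σ.comp (algebraMap (Polynomial R) S) = Polynomial.evalRingHom 0) :
    ∃ Φ : S →+* R⟦X⟧, Function.Injective Φ ∧ (∀ p : Polynomial R, Φ (algebraMap (Polynomial R) S p) = (p : R⟦X⟧)) ∧
      (∀ y, constantCoeff (Φ y) = σ y) ∧
      ∀ (g : S) (ℓ : ℕ) (r : R⟦X⟧), r ^ ℓ = Φ g → ∃ b : S, b ^ ℓ = g := by
  obtain ⟨Φ, Ψ, hinj, hp, h0, key⟩ := exists_power_series σ hσ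
  refine ⟨Φ, hinj, hp, h0, fun g ℓ r hr => ?_⟩
  obtain ⟨b, hb, -⟩ := S0596.result S hG 1 1 (fun _ => MvPolynomial.X 0 ^ ℓ - MvPolynomial.C g) (fun _ => Ψ r)
    (fun _ => by
      simp only [map_sub, map_pow, MvPolynomial.map_X, MvPolynomial.map_C, MvPolynomial.eval_X, MvPolynomial.eval_C]
      rw [← map_pow, hr, key, sub_eq_zero]
      rfl) 0
  refine ⟨b 0, ?_⟩
  have := hb 0
  simpa [sub_eq_zero] using this

end Groth.Agent.SmAcyc
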