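import Groth.Agent.SmAcyc.Core.Setup
import Groth.Agent.Hensel.IntegralStrict
import Groth.Agent.Hensel.Colim
import Groth.Agent.S0733
import Mathlib.FieldTheory.PurelyInseparable.Basic
import Mathlib.FieldTheory.IsAlgClosed.Basic

/-!
# Base change of a strictly local line to an absolutely integrally closed base
-/

set_option autoImplicit false
set_option linter.style.haveILetI false
set_option backward.isDefEq.respectTransparency.types false
set_option maxHeartbeats 800000

universe u

namespace Groth.Agent.SmAcyc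

open IsLocalRing Polynomial TensorProduct

variable (RY RX : Type u) [CommRing RY] [CommRing RX] [Algebra RY RX] [Algebra RY[X] RX]
  [IsScalarTower RY RY[X] RX]

/-- the coordinate moved by a constant -/
noncomputable def shiftX (A' : Type u) [CommRing A'] [Algebra RY A'] (a : A') : A' ⊗[RY] RX :=
  (1 : A') ⊗ₜ[RY] algebraMap RY[X] RX X - a ⊗ₜ[RY] (1 : RX)

/-- the polynomial algebra structure -/
noncomputable abbrev shiftAlg (A' : Type u) [CommRing A'] [Algebra RY A'] (a : A') :
    Algebra A'[X] (A' ⊗[RY] RX) :=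
  (Polynomial.aeval (R := A') (shiftX RY RX A' a)).toRingHom.toAlgebra

theorem isIndEtale_shift (h : EtPBC.IsIndEtale RY[X] RX) (A' : Type u) [CommRing A'] [Algebra RY A'] (a : A') :
    letI := shiftAlg RY RX A' a
    EtPBC.IsIndEtale A'[X] (A' ⊗[RY] RX) := by
  letI := shiftAlg RY RX A' a
  let ρ : RY[X] →ₐ[RY] A'[X] := Polynomial.aeval (X + C a)
  letI : Algebra RY[X] A'[X] := ρ.toRingHom.toAlgebra
  haveI : IsScalarTower RY RY[X] A'[X] := IsScalarTower.of_algebraMap_eq fun r => (ρ.commutes r).symm
  let T := A' ⊗[RY] RX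
  let B := A'[X] ⊗[RY[X]] RX
  letI : Algebra RY[X] T := ((algebraMap A'[X] T).comp ρ.toRingHom).toAlgebra
  haveI : IsScalarTower RY[X] A'[X] T := IsScalarTower.of_algebraMap_eq fun _ => rfl
  have hC : ∀ b : A', algebraMap A'[X] T (C b) = b ⊗ₜ[RY] (1 : RX) := fun b => by
    show Polynomial.aeval (shiftX RY RX A' a) (C b) = _
    rw [Polynomial.aeval_C, Algebra.TensorProduct.algebraMap_apply, Algebra.algebraMap_self_apply]
  have hX : algebraMap A'[X] T X = shiftX RY RX A' a := Polynomial.aeval_X _
  have hcomm : ∀ p : RY[X], (1 : A') ⊗ₜ[RY] algebraMap RY[X] RX p = algebraMap RY[X] T p := by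
    have e : ((Algebra.TensorProduct.includeRight : RX →ₐ[RY] T).toRingHom).comp (algebraMap RY[X] RX) =
        algebraMap RY[X] T := by
      refine Polynomial.ringHom_ext (fun r => ?_) ?_
      · show (1 : A') ⊗ₜ[RY] algebraMap RY[X] RX (C r) = algebraMap A'[X] T (ρ (C r))
        rw [show ρ (C r) = C (algebraMap RY A' r) from (Polynomial.aeval_C _ r).trans rfl, hC,
          show algebraMap RY[X] RX (C r) = algebraMap RY RX r from (IsScalarTower.algebraMap_apply RY RY[X] RX r).symm,
          Algebra.algebraMap_eq_smul_one, Algebra.algebraMap_eq_smul_one, smul_tmul]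
      · show (1 : A') ⊗ₜ[RY] algebraMap RY[X] RX X = algebraMap A'[X] T (ρ X)
        rw [show ρ X = X + C a from Polynomial.aeval_X _, map_add, hX, hC, shiftX, sub_add_cancel]
    exact fun p => congr($e p)
  let g : RX →ₐ[RY[X]] T :=
    { (Algebra.TensorProduct.includeRight : RX →ₐ[RY] T).toRingHom with commutes' := hcomm }
  let fwd : B →ₐ[A'[X]] T :=
    Algebra.TensorProduct.lift (Algebra.ofId A'[X] T) g fun _ _ => Commute.all _ _
  let bwd : T →ₐ[RY] B := Algebra.TensorProduct.lift
    ({ (Algebra.TensorProduct.includeLeftRingHom : A'[X] →+* B).comp C with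
        commutes' := fun r => by
          show C (algebraMap RY A' r) ⊗ₜ[RY[X]] (1 : RX) = algebraMap RY B r
          rw [IsScalarTower.algebraMap_apply RY A'[X] B, Algebra.TensorProduct.algebraMap_apply,
            Algebra.algebraMap_self_apply]
          rfl } : A' →ₐ[RY] B)
    ((Algebra.TensorProduct.includeRight : RX →ₐ[RY[X]] B).restrictScalars RY) fun _ _ => Commute.all _ _
  have hfwd : ∀ (p : A'[X]) (r : RX), fwd (p ⊗ₜ[RY[X]] r) = algebraMap A'[X] T p * (1 : A') ⊗ₜ[RY] r := fun p r =>
    Algebra.TensorProduct.lift_tmul _ _ _ p r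
  have hbwd : ∀ (b : A') (r : RX), bwd (b ⊗ₜ[RY] r) = C b ⊗ₜ[RY[X]] r := fun b r => by
    refine (Algebra.TensorProduct.lift_tmul _ _ _ b r).trans ?_
    show (C b ⊗ₜ[RY[X]] (1 : RX)) * ((1 : A'[X]) ⊗ₜ[RY[X]] r) = _
    rw [Algebra.TensorProduct.tmul_mul_tmul, mul_one, one_mul]
  have h1 : ∀ t : T, fwd (bwd t) = t := fun t => by
    induction t using TensorProduct.induction_on with
    | zero => rw [map_zero, map_zero]
    | tmul b r =>
      rw [hbwd, hfwd, hC, Algebra.TensorProduct.tmul_mul_tmul, mul_one, one_mul]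
    | add x y hx hy => rw [map_add, map_add, hx, hy]
  have hbX : ∀ p : A'[X], bwd (algebraMap A'[X] T p) = p ⊗ₜ[RY[X]] (1 : RX) := by
    have e : bwd.toRingHom.comp (algebraMap A'[X] T) = (Algebra.TensorProduct.includeLeftRingHom : A'[X] →+* B) := by
      refine Polynomial.ringHom_ext (fun b => ?_) ?_
      · show bwd (algebraMap A'[X] T (C b)) = C b ⊗ₜ[RY[X]] (1 : RX)
        rw [hC, hbwd]
      · show bwd (algebraMap A'[X] T X) = (X : A'[X]) ⊗ₜ[RY[X]] (1 : RX)
        rw [hX, shiftX, map_sub, hbwd, hbwd, map_one, ← mul_one (algebraMap RY[X] RX X), ← Algebra.smul_def,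
          ← smul_tmul, Algebra.smul_def, mul_one,
          show algebraMap RY[X] A'[X] X = X + C a from Polynomial.aeval_X _, add_tmul, add_sub_cancel_right]
    exact fun p => congr($e p)
  have h2 : ∀ z : B, bwd (fwd z) = z := fun z => by
    induction z using TensorProduct.induction_on with
    | zero => rw [map_zero, map_zero]
    | tmul p r =>
      rw [hfwd, map_mul, hbX, hbwd, map_one, Algebra.TensorProduct.tmul_mul_tmul, mul_one, one_mul]
    | add x y hx hy => rw [map_add, map_add, hx, hy]
  exact Hensel.isIndEtale_of_algEquiv (S0733.result RY[X] RX A'[X] h)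
    (AlgEquiv.ofBijective fwd ⟨fun x y e => by rw [← h2 x, e, h2], fun t => ⟨bwd t, h1 t⟩⟩)

/-- the base change is a strictly local line at a suitable origin -/
theorem exists_isShLine_baseChange [HenselianLocalRing RY] [IsSepClosed (ResidueField RY)] [HenselianLocalRing RX]
    [IsSepClosed (ResidueField RX)] [IsLocalHom (algebraMap RY RX)]
    [Algebra.IsAlgebraic (ResidueField RY) (ResidueField RX)] (h : EtPBC.IsIndEtale RY[X] RX) (A' : Type u)
    [CommRing A'] [IsLocalRing A'] [IsAlgClosed (ResidueField A')] [Algebra RY A'] [IsLocalHom (algebraMap RY A')]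
    [Algebra.IsIntegral RY A'] :
    ∃ (a : A') (_ : IsLocalRing (A' ⊗[RY] RX)),
      letI := shiftAlg RY RX A' a
      IsShLine A' (A' ⊗[RY] RX) := by
  let T := A' ⊗[RY] RX
  let kY := ResidueField RY
  let kX := ResidueField RX
  let k := ResidueField A'
  let τ : kX →ₐ[kY] k := IsAlgClosed.lift
  obtain ⟨a, ha⟩ := IsLocalRing.residue_surjective (τ (residue RX (algebraMap RY[X] RX X)))
  let μ : T →ₐ[RY] k := Algebra.TensorProduct.lift (IsScalarTower.toAlgHom RY A' k)
    ((τ.restrictScalars RY).comp (IsScalarTower.toAlgHom RY RX kX)) fun _ _ => Commute.all _ _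
  have hμ : ∀ (b : A') (r : RX), μ (b ⊗ₜ[RY] r) = residue A' b * τ (residue RX r) := fun b r =>
    Algebra.TensorProduct.lift_tmul _ _ _ b r
  have hsurj : Function.Surjective μ := fun z => by
    obtain ⟨b, rfl⟩ := IsLocalRing.residue_surjective z
    exact ⟨b ⊗ₜ 1, by rw [hμ, map_one, map_one, mul_one]⟩
  haveI hmax : (RingHom.ker μ.toRingHom).IsMaximal := RingHom.ker_isMaximal_of_surjective μ.toRingHom hsurj
  letI aR : Algebra RX T := Algebra.TensorProduct.rightAlgebra
  have haR : ∀ r : RX, algebraMap RX T r = (1 : A') ⊗ₜ[RY] r := fun _ => rfl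
  haveI : Algebra.IsIntegral RX T := ⟨fun t => by
    induction t using TensorProduct.induction_on with
    | zero => exact isIntegral_zero
    | tmul b r =>
      have hb : IsIntegral RX (b ⊗ₜ[RY] (1 : RX) : T) := by
        obtain ⟨p, hp, hpb⟩ := Algebra.IsIntegral.isIntegral (R := RY) b
        refine ⟨p.map (algebraMap RY RX), hp.map _, ?_⟩
        rw [eval₂_map, show (algebraMap RX T).comp (algebraMap RY RX) = algebraMap RY T from
          RingHom.ext fun r => by
            rw [RingHom.comp_apply, haR, Algebra.TensorProduct.algebraMap_apply, Algebra.algebraMap_eq_smul_one,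
              Algebra.algebraMap_eq_smul_one, tmul_smul, smul_tmul']]
        show aeval ((Algebra.TensorProduct.includeLeft : A' →ₐ[RY] T) b) p = 0
        rw [aeval_algHom_apply, aeval_def, hpb, map_zero]
      have : (b ⊗ₜ[RY] r : T) = b ⊗ₜ[RY] (1 : RX) * algebraMap RX T r := by
        rw [haR, Algebra.TensorProduct.tmul_mul_tmul, mul_one, one_mul]
      rw [this]
      exact hb.mul isIntegral_algebraMap
    | add x y hx hy => exact hx.add hy⟩
  have huniq : ∀ M : Ideal T, M.IsMaximal → M = RingHom.ker μ.toRingHom := by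
    intro M hM
    let π : T →+* T ⧸ M := Ideal.Quotient.mk M
    letI : Field (T ⧸ M) := Ideal.Quotient.field M
    haveI hMX : (M.comap (algebraMap RX T)).IsMaximal := Ideal.isMaximal_comap_of_isIntegral_of_isMaximal M
    let iA : A' →+* T := (Algebra.TensorProduct.includeLeftRingHom : A' →+* T)
    have hRY : iA.comp (algebraMap RY A') = (algebraMap RX T).comp (algebraMap RY RX) := RingHom.ext fun r => by
      show algebraMap RY A' r ⊗ₜ[RY] (1 : RX) = (1 : A') ⊗ₜ[RY] algebraMap RY RX r
      rw [Algebra.algebraMap_eq_smul_one, Algebra.algebraMap_eq_smul_one, smul_tmul]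
    haveI : (M.comap iA).IsPrime := Ideal.IsPrime.comap iA
    haveI : ((M.comap iA).comap (algebraMap RY A')).IsMaximal := by
      rw [Ideal.comap_comap, hRY, ← Ideal.comap_comap, IsLocalRing.eq_maximalIdeal hMX,
        show (maximalIdeal RX).comap (algebraMap RY RX) = maximalIdeal RY from
          ((IsLocalRing.local_hom_TFAE (algebraMap RY RX)).out 0 4).1 ‹_›]
      infer_instance
    have hMA : M.comap iA = maximalIdeal A' :=
      IsLocalRing.eq_maximalIdeal (Ideal.isMaximal_of_isIntegral_of_isMaximal_comap _ ‹_›)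
    let f : k →+* T ⧸ M := Ideal.Quotient.lift _ (π.comp iA) fun b hb =>
      Ideal.Quotient.eq_zero_iff_mem.2 (show b ∈ M.comap iA by rw [hMA]; exact hb)
    let g : kX →+* T ⧸ M := Ideal.Quotient.lift _ (π.comp (algebraMap RX T)) fun b hb =>
      Ideal.Quotient.eq_zero_iff_mem.2 (show b ∈ M.comap (algebraMap RX T) by
        rw [IsLocalRing.eq_maximalIdeal hMX]; exact hb)
    have hf : ∀ b : A', f (residue A' b) = π (iA b) := fun _ => rfl
    have hg : ∀ r : RX, g (residue RX r) = π (algebraMap RX T r) := fun _ => rfl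
    letI : Algebra kY (T ⧸ M) := (f.comp (algebraMap kY k)).toAlgebra
    let F₁ : kX →ₐ[kY] T ⧸ M :=
      { f.comp τ.toRingHom with commutes' := fun z => congrArg f (τ.commutes z) }
    let G₁ : kX →ₐ[kY] T ⧸ M :=
      { g with
        commutes' := fun z => by
          obtain ⟨r, rfl⟩ := IsLocalRing.residue_surjective z
          show g (residue RX (algebraMap RY RX r)) = f (residue A' (algebraMap RY A' r))
          rw [hf, hg]
          exact congrArg π congr($hRY r).symm }
    have hfg : ∀ z, f (τ z) = g z := fun z => congr($(Subsingleton.elim F₁ G₁) z)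
    have key : ∀ t : T, π t = f (μ t) := fun t => by
      induction t using TensorProduct.induction_on with
      | zero => rw [map_zero, map_zero, map_zero]
      | tmul b r =>
        rw [hμ, map_mul, hfg, hf, hg, ← map_mul]
        congr 1
        show (b ⊗ₜ[RY] r : T) = b ⊗ₜ[RY] (1 : RX) * (1 : A') ⊗ₜ[RY] r
        rw [Algebra.TensorProduct.tmul_mul_tmul, mul_one, one_mul]
      | add x y hx hy => rw [map_add, map_add, map_add, hx, hy]
    refine Ideal.ext fun t => ?_
    rw [← Ideal.Quotient.eq_zero_iff_mem, RingHom.mem_ker, show Ideal.Quotient.mk M t = f (μ t) from key t]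
    exact map_eq_zero_iff f f.injective
  haveI hT : IsLocalRing T := IsLocalRing.of_unique_max_ideal ⟨_, hmax, huniq⟩
  have hmT : maximalIdeal T = RingHom.ker μ.toRingHom := (IsLocalRing.eq_maximalIdeal hmax).symm
  refine ⟨a, hT, ?_⟩
  letI := shiftAlg RY RX A' a
  haveI : IsLocalHom (algebraMap RX T) := Hensel.isLocalHom_of_isIntegral_local RX T
  refine ⟨Hensel.henselianLocalRing_of_isIntegral_local RX T, (Hensel.residueField_of_isIntegral RX T).1,
    isIndEtale_shift RY RX h A' a, ?_⟩
  have e : μ.toRingHom.comp (algebraMap A'[X] T) = (residue A').comp (evalRingHom 0) := by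
    refine Polynomial.ringHom_ext (fun b => ?_) ?_
    · show μ (Polynomial.aeval (shiftX RY RX A' a) (C b)) = residue A' ((C b).eval 0)
      rw [Polynomial.aeval_C, eval_C, Algebra.TensorProduct.algebraMap_apply, Algebra.algebraMap_self_apply, hμ,
        map_one, map_one, mul_one]
    · show μ (Polynomial.aeval (shiftX RY RX A' a) X) = residue A' (X.eval 0)
      rw [Polynomial.aeval_X, eval_X, map_zero, shiftX, map_sub, hμ, hμ, map_one, map_one, map_one, one_mul, mul_one,
        ha, sub_self]
  rw [hmT]
  ext p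
  rw [Ideal.mem_comap, Ideal.mem_comap, RingHom.mem_ker, ← residue_eq_zero_iff, coe_evalRingHom]
  exact Eq.congr (congr($e p)) rfl

end Groth.Agent.SmAcyc
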