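import Groth.Agent.SmAcyc.Spread
import Groth.Agent.S0733
import Groth.Agent.S0734
import Groth.Agent.S0735
import Groth.Agent.S12237
import Groth.Agent.IndEtLib.Localization
import Groth.Agent.IndZarLib.Factor
import Mathlib.RingTheory.PolynomialAlgebra

/-!
# Strict localizations of the affine line at points finite over the base
-/

set_option autoImplicit false
set_option linter.style.haveILetI false
set_option backward.isDefEq.respectTransparency.types false
set_option maxHeartbeats 800000

universe u

open CategoryTheory AlgebraicGeometry IsLocalRing TensorProduct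

namespace Groth.Agent.SmAcyc

attribute [local instance] Polynomial.algebra

/-- strict henselizations of local rings of affine schemes are ind-étale -/
theorem isIndEtale_strict_of_stalk (R S : Type u) [CommRing R] [CommRing S] [IsLocalRing S] (x : Spec (CommRingCat.of R))
    [Algebra ((Spec (CommRingCat.of R)).presheaf.stalk x) S]
    [IsLocalHom (algebraMap ((Spec (CommRingCat.of R)).presheaf.stalk x) S)]
    [Hensel.IsStrictHenselization ((Spec (CommRingCat.of R)).presheaf.stalk x) S] :
    letI : Algebra R ((Spec (CommRingCat.of R)).presheaf.stalk x) :=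
      StructureSheaf.stalkAlgebra (CommRingCat.of R) x
    letI : Algebra R S := ((algebraMap ((Spec (CommRingCat.of R)).presheaf.stalk x) S).comp
      (algebraMap R ((Spec (CommRingCat.of R)).presheaf.stalk x))).toAlgebra
    EtPBC.IsIndEtale R S := by
  letI : Algebra R ((Spec (CommRingCat.of R)).presheaf.stalk x) :=
    StructureSheaf.stalkAlgebra (CommRingCat.of R) x
  letI : Algebra R S := ((algebraMap ((Spec (CommRingCat.of R)).presheaf.stalk x) S).comp
    (algebraMap R ((Spec (CommRingCat.of R)).presheaf.stalk x))).toAlgebra
  haveI : IsScalarTower R ((Spec (CommRingCat.of R)).presheaf.stalk x) S :=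
    IsScalarTower.of_algebraMap_eq fun _ => rfl
  haveI : IsLocalization.AtPrime ((Spec (CommRingCat.of R)).presheaf.stalk x) x.asIdeal :=
    StructureSheaf.IsLocalization.to_stalk (CommRingCat.of R) x
  exact S0734.result R ((Spec (CommRingCat.of R)).presheaf.stalk x) S
    (IndZarLib.isIndEtale_of_isIndZariski (IndEtLib.isIndZariski_localization x.asIdeal.primeCompl _))
    (S12237.result _ S)

set_option maxHeartbeats 1600000 in
/-- the strict localization of the line is ind-étale over the line over the strict localization of the base -/
theorem exists_line_data (A : Type u) [CommRing A] (x : Spec (CommRingCat.of (Polynomial A)))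
    (hx : FinPt (lineMap A) x)
    (RY RX : Type u) [CommRing RY] [IsLocalRing RY] [CommRing RX] [IsLocalRing RX]
    [Algebra ((Spec (CommRingCat.of A)).presheaf.stalk ((lineMap A).base x)) RY]
    [IsLocalHom (algebraMap ((Spec (CommRingCat.of A)).presheaf.stalk ((lineMap A).base x)) RY)]
    [Hensel.IsStrictHenselization ((Spec (CommRingCat.of A)).presheaf.stalk ((lineMap A).base x)) RY]
    [Algebra ((Spec (CommRingCat.of (Polynomial A))).presheaf.stalk x) RX]
    [IsLocalHom (algebraMap ((Spec (CommRingCat.of (Polynomial A))).presheaf.stalk x) RX)]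
    [Hensel.IsStrictHenselization ((Spec (CommRingCat.of (Polynomial A))).presheaf.stalk x) RX]
    (ψ : RY →+* RX) [IsLocalHom ψ]
    (hψ : ψ.comp (algebraMap ((Spec (CommRingCat.of A)).presheaf.stalk ((lineMap A).base x)) RY) =
      (algebraMap ((Spec (CommRingCat.of (Polynomial A))).presheaf.stalk x) RX).comp ((lineMap A).stalkMap x).hom) :
    ∃ (_ : Algebra RY RX) (_ : Algebra (Polynomial RY) RX),
      algebraMap RY RX = ψ ∧ IsScalarTower RY (Polynomial RY) RX ∧ EtPBC.IsIndEtale (Polynomial RY) RX ∧
      (letI : Algebra (ResidueField RY) (ResidueField RX) := (ResidueField.map ψ).toAlgebra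
       Algebra.IsAlgebraic (ResidueField RY) (ResidueField RX)) ∧ ∀ ℓ : ℕ, IsUnit (ℓ : A) → IsUnit (ℓ : RY) := by
  let T := Polynomial A
  let OY := (Spec (CommRingCat.of A)).presheaf.stalk ((lineMap A).base x)
  let OX := (Spec (CommRingCat.of T)).presheaf.stalk x
  letI : Algebra A OY := StructureSheaf.stalkAlgebra (CommRingCat.of A) ((lineMap A).base x)
  letI : Algebra T OX := StructureSheaf.stalkAlgebra (CommRingCat.of T) x
  letI : Algebra A RY := ((algebraMap OY RY).comp (algebraMap A OY)).toAlgebra
  letI : Algebra T RX := ((algebraMap OX RX).comp (algebraMap T OX)).toAlgebra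
  have hY : EtPBC.IsIndEtale A RY := isIndEtale_strict_of_stalk A RY ((lineMap A).base x)
  have hX : EtPBC.IsIndEtale T RX := isIndEtale_strict_of_stalk T RX x
  have hcomp : ∀ r : A, ψ (algebraMap A RY r) = algebraMap T RX (Polynomial.C r) := fun r => by
    refine (congr($hψ (algebraMap A OY r))).trans ?_
    exact congrArg (algebraMap OX RX)
      (stalkMap_toStalk_apply (CommRingCat.ofHom (Polynomial.C : A →+* T)) x r)
  letI a₁ : Algebra RY RX := ψ.toAlgebra
  let θ : Polynomial RY →ₐ[RY] RX := Polynomial.aeval (algebraMap T RX Polynomial.X)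
  letI a₂ : Algebra (Polynomial RY) RX := θ.toRingHom.toAlgebra
  haveI hT : IsScalarTower RY (Polynomial RY) RX := IsScalarTower.of_algebraMap_eq fun r => (θ.commutes r).symm
  refine ⟨a₁, a₂, rfl, hT, ?_, ?_, fun ℓ h => map_natCast (algebraMap A RY) ℓ ▸ h.map _⟩
  · haveI : IsScalarTower T (Polynomial RY) RX := IsScalarTower.of_algebraMap_eq' (by
      refine Polynomial.ringHom_ext (fun r => ?_) ?_
      · show algebraMap T RX (Polynomial.C r) = θ ((Polynomial.C r).map (algebraMap A RY))
        rw [Polynomial.map_C, Polynomial.aeval_C]
        exact (hcomp r).symm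
      · show algebraMap T RX Polynomial.X = θ (Polynomial.X.map (algebraMap A RY))
        rw [Polynomial.map_X, Polynomial.aeval_X])
    have hTY : EtPBC.IsIndEtale T (Polynomial RY) :=
      Hensel.isIndEtale_of_algEquiv (S0733.result A RY T hY) (Algebra.IsPushout.equiv A T RY (Polynomial RY))
    exact S0735.result T (Polynomial RY) RX hTY hX
  · let KY := ResidueField OY
    let KX := ResidueField OX
    let g : KY →+* KX := ResidueField.map ((lineMap A).stalkMap x).hom
    have hg : g.IsIntegral := RingHom.Finite.to_isIntegral (hx : ((lineMap A).residueFieldMap x).hom.Finite)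
    haveI := (‹Hensel.IsStrictHenselization OX RX›).isSepClosure.separable
    let aX : KX →+* ResidueField RX := ResidueField.map (algebraMap OX RX)
    have haX : aX.IsIntegral := fun z => (Algebra.IsSeparable.isIntegral KX z)
    have hint : (aX.comp g).IsIntegral := RingHom.IsIntegral.trans _ _ hg haX
    have e : aX.comp g = (ResidueField.map ψ).comp (ResidueField.map (algebraMap OY RY)) := by
      refine RingHom.ext fun z => ?_
      obtain ⟨w, rfl⟩ := IsLocalRing.residue_surjective z
      show residue RX (algebraMap OX RX (((lineMap A).stalkMap x).hom w)) = residue RX (ψ (algebraMap OY RY w))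
      exact congrArg (residue RX) congr($hψ w).symm
    rw [e] at hint
    letI : Algebra (ResidueField RY) (ResidueField RX) := (ResidueField.map ψ).toAlgebra
    haveI : Algebra.IsIntegral (ResidueField RY) (ResidueField RX) := ⟨RingHom.IsIntegral.tower_top _ _ hint⟩
    infer_instance

end Groth.Agent.SmAcyc
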