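import Groth.Agent.SmAcyc.Core.Setup
import Groth.Agent.FlatUnib5.Approx
import Groth.Agent.IndEtStrict.Stalk
import Groth.Agent.WEtLib.OverField
import Mathlib.RingTheory.Smooth.NoetherianDescent

/-!
# Noetherian models of strictly local lines
-/

set_option autoImplicit false
set_option linter.style.haveILetI false
set_option linter.overlappingInstances false
set_option synthInstance.maxHeartbeats 400000
set_option backward.isDefEq.respectTransparency.types false

universe u

namespace Groth.Agent.SmAcyc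

open IsLocalRing Polynomial TensorProduct

/-- a map out of a strict henselization of a domain, injective on the domain, is injective -/
theorem injective_of_isStrictHenselization (O R : Type u) [CommRing O] [IsDomain O] [IsLocalRing O] [CommRing R]
    [IsLocalRing R] [IsDomain R] [Algebra O R] [IsLocalHom (algebraMap O R)] [Hensel.IsStrictHenselization O R]
    {A : Type u} [CommRing A] [IsDomain A] (ι : R →+* A)
    (hi : Function.Injective (ι.comp (algebraMap O R))) : Function.Injective ι := by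
  refine (injective_iff_map_eq_zero ι).2 fun x hx => ?_
  by_contra hx0
  let K := FractionRing O
  haveI : Algebra.WeaklyEtale K (K ⊗[O] R) := S0736.result _ _ (S0733.result O R K (S12237.result O R))
  obtain ⟨P, hP, hP0⟩ := WEtLib.isIntegral_of_weaklyEtale (K := K) ((1 : K) ⊗ₜ[O] x)
  obtain ⟨⟨b, hb⟩, hbP⟩ := IsLocalization.exist_integer_multiples (nonZeroDivisors O) P.support P.coeff
  have hex' : ∀ i, ∃ c : O, algebraMap O K c = algebraMap O K b * P.coeff i := fun i => by
    by_cases hi : i ∈ P.support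
    · obtain ⟨c, hc⟩ := hbP i hi
      exact ⟨c, hc.trans (Algebra.smul_def b (P.coeff i))⟩
    · exact ⟨0, by rw [notMem_support_iff.1 hi, mul_zero, map_zero]⟩
  choose c hc using hex'
  let Q : O[X] := ∑ i ∈ Finset.range (P.natDegree + 1), C (c i) * X ^ i
  have hQ : Q.map (algebraMap O K) = C (algebraMap O K b) * P := by
    show Polynomial.map _ _ = _
    rw [Polynomial.map_sum]
    conv_rhs => rw [P.as_sum_range_C_mul_X_pow, Finset.mul_sum]
    refine Finset.sum_congr rfl fun i _ => ?_
    rw [Polynomial.map_mul, map_C, Polynomial.map_pow, map_X, hc, map_mul, mul_assoc]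
  have hQ0 : Q ≠ 0 := fun h0 => by
    have := hQ
    rw [h0, Polynomial.map_zero] at this
    exact mul_ne_zero (C_ne_zero.2 fun h => nonZeroDivisors.ne_zero hb (IsFractionRing.injective O K (h.trans (map_zero _).symm)))
      hP.ne_zero this.symm
  have hQx : aeval x Q = 0 := by
    let incl : R →ₐ[O] K ⊗[O] R := Algebra.TensorProduct.includeRight
    have hinj : Function.Injective incl := by
      haveI : Module.Flat O R := (Hensel.faithfullyFlat_of_isStrictHenselization O R).toFlat
      exact Algebra.TensorProduct.includeRight_injective (IsFractionRing.injective O K)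
    refine hinj ?_
    rw [map_zero, ← aeval_algHom_apply, ← aeval_map_algebraMap K, hQ, map_mul, aeval_def (p := P)]
    exact mul_eq_zero_of_right _ hP0
  obtain ⟨k, Q', hQ', hQe⟩ : ∃ (k : ℕ) (Q' : O[X]), Q'.coeff 0 ≠ 0 ∧ Q = X ^ k * Q' := by
    obtain ⟨Q', hQ'⟩ := Polynomial.X_pow_dvd_iff.2 (fun d (hd : d < Q.natTrailingDegree) =>
      coeff_eq_zero_of_lt_natTrailingDegree hd)
    refine ⟨Q.natTrailingDegree, Q', fun h => ?_, hQ'⟩
    have h1 : Q.coeff Q.natTrailingDegree ≠ 0 := trailingCoeff_nonzero_iff_nonzero.2 hQ0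
    apply h1
    conv_lhs => arg 1; rw [hQ']
    simpa [coeff_X_pow_mul'] using h
  rw [hQe, map_mul, map_pow, aeval_X] at hQx
  have h1 := congrArg ι ((mul_eq_zero.1 hQx).resolve_left (pow_ne_zero _ hx0))
  rw [map_zero, aeval_def, hom_eval₂, hx, eval₂_at_zero] at h1
  exact hQ' (hi (h1.trans (map_zero _).symm))

/-- a noetherian normal strictly henselian subring containing finitely many elements -/
theorem exists_base (A : Type u) [CommRing A] [IsDomain A] [IsIntegrallyClosed A] [HenselianLocalRing A]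
    [IsSepClosed (ResidueField A)] (G : Finset A) :
    ∃ (R : Type u) (_ : CommRing R) (_ : HenselianLocalRing R) (_ : IsNoetherianRing R) (_ : IsDomain R)
      (_ : IsIntegrallyClosed R) (_ : IsSepClosed (ResidueField R)) (ι : R →+* A) (_ : IsLocalHom ι),
      CAlg.IsGRing R ∧ Function.Injective ι ∧ ∀ x ∈ G, x ∈ ι.range := by
  let A₀ := Algebra.adjoin ℤ (G : Set A)
  haveI : Algebra.FiniteType ℤ A₀ :=
    (Subalgebra.fg_iff_finiteType A₀).1 ⟨G, rfl⟩
  obtain ⟨A₁, _, _, _, _, g, hex, hg, hgA⟩ :=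
    FlatUnib5.exists_normal_ring (A₀ := A₀) (A := A) Subtype.val_injective
  let p : Ideal A₁ := (maximalIdeal A).comap g
  let O := Localization.AtPrime p
  let gO : O →+* A := IsLocalization.lift (M := p.primeCompl) (g := g) fun s => notMem_maximalIdeal.1 s.2
  have hgO : ∀ x, gO (algebraMap A₁ O x) = g x := fun x => IsLocalization.lift_eq _ x
  haveI : IsLocalHom gO := ⟨fun z hz => by
    obtain ⟨s, t, rfl⟩ := IsLocalization.exists_mk'_eq p.primeCompl z
    refine (IsLocalization.AtPrime.isUnit_mk'_iff O p s t).2 fun hs => ?_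
    have h2 : gO (IsLocalization.mk' O s t) * g t = g s := by
      rw [← hgO t.1, ← hgO s, ← map_mul, IsLocalization.mk'_spec]
    exact hs (h2 ▸ hz.mul (notMem_maximalIdeal.1 t.2))⟩
  haveI : IsNoetherianRing O := IsLocalization.isNoetherianRing p.primeCompl O hex.1
  haveI : IsDomain O := IsLocalization.isDomain_localization p.primeCompl_le_nonZeroDivisors
  haveI : IsIntegrallyClosed O :=
    isIntegrallyClosed_of_isLocalization _ p.primeCompl p.primeCompl_le_nonZeroDivisors
  have hgOi : Function.Injective gO := IsLocalization.lift_injective_iff _ |>.2 fun x y => by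
    rw [(IsLocalization.injective O p.primeCompl_le_nonZeroDivisors).eq_iff, hg.eq_iff]
  have hGO : CAlg.IsGRing O := CplFib6.isGRing_localization hex.2.2.1 p.primeCompl O
  obtain ⟨R, _, _, _, hl, hR⟩ := S0537.result O
  haveI := hl
  haveI := hR
  haveI := hR.henselian
  haveI := hR.isSepClosure.sep_closed
  haveI := hR.isSepClosure.separable
  obtain ⟨hdom, hic⟩ := (Hensel.IsHenzLike.normal_iff (Hensel.isHenzLike_of_isStrictHenselization O R)).1
    ⟨inferInstance, inferInstance⟩
  haveI := hdom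
  haveI := hic
  haveI : IsNoetherianRing R := by
    obtain ⟨e⟩ := Hensel.exists_algEquiv_strictHenz O R
    haveI : IsNoetherianRing (Hensel.Henz O (SeparableClosure (ResidueField O))) := Hensel.isNoetherianRing_henz
    exact isNoetherianRing_of_ringEquiv _ e.toRingEquiv
  letI : Algebra (ResidueField O) (ResidueField A) := (ResidueField.map gO).toAlgebra
  let τ : ResidueField R →ₐ[ResidueField O] ResidueField A := IsSepClosed.lift
  obtain ⟨ι, ⟨hι, hιr⟩, -⟩ := hR.universal A gO τ.toRingHom (RingHom.ext τ.commutes)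
  haveI hιl : IsLocalHom ι := ⟨fun z hz => by
    by_contra hn
    have h0 : residue A (ι z) = 0 := by rw [hιr, (residue_eq_zero_iff z).2 hn, map_zero]
    exact ((residue_eq_zero_iff _).1 h0) hz⟩
  refine ⟨R, inferInstance, inferInstance, inferInstance, inferInstance, inferInstance, inferInstance, ι, hιl,
    S2046.result hGO, (injective_iff_map_eq_zero ι).2 fun x hx => ?_, fun x hx => ?_⟩
  · exact injective_iff_map_eq_zero _ |>.1 (injective_of_isStrictHenselization O R ι
      ((congrArg (fun f : O →+* A => (f : O → A)) hι).symm ▸ hgOi)) x hx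
  · refine ⟨algebraMap O R (algebraMap A₁ O (algebraMap A₀ A₁ ⟨x, Algebra.subset_adjoin hx⟩)), ?_⟩
    rw [show ι (algebraMap O R _) = gO _ from congr($hι _), hgO, hgA]
    rfl

/-- a point of an étale algebra over a separably closed field is rational -/
theorem mem_range_of_etale {P E k Ω : Type u} [CommRing P] [CommRing E] [Algebra P E] [Algebra.Etale P E] [Field k]
    [IsSepClosed k] [Field Ω] [Algebra P k] [Algebra k Ω] [Algebra P Ω] [IsScalarTower P k Ω] (ε : E →ₐ[P] Ω) (z : E) :
    ε z ∈ (algebraMap k Ω).range := by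
  haveI : Algebra.WeaklyEtale k (k ⊗[P] E) :=
    S0736.result _ _ (S0733.result P E k (IndEtStrict.isIndEtale_of_etale P E))
  let μ : k ⊗[P] E →ₐ[k] Ω := Algebra.TensorProduct.lift (Algebra.ofId k Ω) ε fun _ _ => Commute.all _ _
  haveI : (RingHom.ker μ.toRingHom).IsPrime := RingHom.ker_isPrime _
  let μ' : (k ⊗[P] E) ⧸ RingHom.ker μ.toRingHom →ₐ[k] Ω := Ideal.Quotient.liftₐ _ μ fun a ha => ha
  have hinj : Function.Injective μ' := by
    rw [injective_iff_map_eq_zero]
    intro a ha
    obtain ⟨b, rfl⟩ := Ideal.Quotient.mk_surjective a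
    exact Ideal.Quotient.eq_zero_iff_mem.2 ha
  have hs := IsSeparable.map μ' hinj (WEtLib.isSeparable_mk (K := k) (RingHom.ker μ.toRingHom) ((1 : k) ⊗ₜ[P] z))
  have he : μ' (Ideal.Quotient.mk _ ((1 : k) ⊗ₜ[P] z)) = ε z := by
    show μ ((1 : k) ⊗ₜ[P] z) = _
    rw [Algebra.TensorProduct.lift_tmul, map_one, one_mul]
  rw [he] at hs
  exact IndEtStrict.mem_range (Algebra.ofId k Ω) _ hs

variable {A S : Type u} [CommRing A] [HenselianLocalRing A] [IsSepClosed (ResidueField A)] [CommRing S] [IsLocalRing S]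
  [Algebra A[X] S]

set_option maxHeartbeats 1000000 in
/-- noetherian models -/
theorem exists_descent [IsDomain A] [IsIntegrallyClosed A] (h : IsShLine A S) (G : Finset A) (F : Finset S) :
    ∃ (R : Type u) (_ : CommRing R) (_ : HenselianLocalRing R) (_ : IsNoetherianRing R) (_ : IsDomain R)
      (_ : IsIntegrallyClosed R) (_ : IsSepClosed (ResidueField R)) (ι : R →+* A) (_ : IsLocalHom ι)
      (S₀ : Type u) (_ : CommRing S₀) (_ : IsLocalRing S₀) (_ : Algebra R[X] S₀) (θ : S₀ →+* S) (_ : IsLocalHom θ),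
      Function.Injective ι ∧ (∀ x ∈ G, x ∈ ι.range) ∧ IsShLine R S₀ ∧ IsNoetherianRing S₀ ∧ CAlg.IsGRing S₀ ∧
        θ.comp (algebraMap R[X] S₀) = (algebraMap A[X] S).comp (mapRingHom ι) ∧ ∀ y ∈ F, y ∈ θ.range := by
  classical
  obtain ⟨Sys0, hSys, ⟨eS⟩⟩ := IndEtLib.exists_sys h.indEtale
  obtain ⟨j, y, hy⟩ := Sys0.exists_lift_finset F fun f => eS.symm f
  haveI := hSys j
  let E := Sys0.A j
  let ιE : E →ₐ[A[X]] S := eS.toAlgHom.comp (Sys0.ι j)
  obtain ⟨A₀, B₀, _, _, ⟨T₀, hT₀⟩, _, ⟨e⟩⟩ := Algebra.Etale.exists_subalgebra_fg ℤ A[X] E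
  choose T hT using fun f : S => TensorProduct.exists_finset (e (y f))
  let G' : Finset A := G ∪ T₀.biUnion (fun p => p.coeffs) ∪ F.biUnion fun f => (T f).biUnion fun t => t.1.coeffs
  obtain ⟨R, _, _, _, _, _, _, ι, _, hG, hι, hGι⟩ := exists_base A G'
  let μ : R[X] →+* A[X] := mapRingHom ι
  have hμi : Function.Injective μ := Polynomial.map_injective ι hι
  have hlift : ∀ p : A[X], (∀ c ∈ p.coeffs, c ∈ ι.range) → p ∈ μ.range := fun p hp => by
    have h1 : p ∈ Polynomial.lifts ι := (lifts_iff_coeff_lifts p).2 fun n => by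
      by_cases hn : p.coeff n = 0
      · exact ⟨0, by rw [map_zero, hn]⟩
      · exact hp _ (coeff_mem_coeffs hn)
    obtain ⟨q, hq⟩ := (mem_lifts _).1 h1
    exact ⟨q, hq⟩
  have hA₀ : ∀ a ∈ A₀, a ∈ μ.range := fun a ha => by
    rw [← hT₀] at ha
    induction ha using Algebra.adjoin_induction with
    | mem p hp =>
      exact hlift p fun c hc => hGι c (Finset.mem_union_left _ (Finset.mem_union_right _
        (Finset.mem_biUnion.2 ⟨p, hp, hc⟩)))
    | algebraMap r => exact ⟨(r : R[X]), by rw [map_intCast, eq_intCast]⟩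
    | add a b _ _ ha hb => exact add_mem ha hb
    | mul a b _ _ ha hb => exact mul_mem ha hb
  let eμ : R[X] ≃+* μ.range := RingEquiv.ofBijective μ.rangeRestrict
    ⟨fun a b hab => hμi (congrArg Subtype.val hab), μ.rangeRestrict_surjective⟩
  let jA : A₀ →+* R[X] := eμ.symm.toRingHom.comp
    (A₀.val.toRingHom.codRestrict μ.range fun a => hA₀ a.1 a.2)
  have hjA : ∀ a : A₀, μ (jA a) = (a : A[X]) := fun a =>
    congrArg Subtype.val (eμ.apply_symm_apply ⟨a.1, hA₀ a.1 a.2⟩)
  obtain ⟨S₀, _, _, _, hS₀, hN, hGS⟩ := exists_shLine R hG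
  haveI := h.henselian
  haveI := h.sepClosed
  haveI := hS₀.henselian
  let φ : R[X] →+* S := (algebraMap A[X] S).comp μ
  have horig : (maximalIdeal S).comap φ = orig R := by
    rw [← Ideal.comap_comap, h.origin]
    ext p
    rw [Ideal.mem_comap, Ideal.mem_comap, Ideal.mem_comap, coe_evalRingHom, coe_evalRingHom, coe_mapRingHom,
      ← ι.map_zero, eval_map_apply, ← Ideal.mem_comap, show (maximalIdeal A).comap ι = maximalIdeal R from ((IsLocalRing.local_hom_TFAE ι).out 0 4).1 ‹IsLocalHom ι›]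
  obtain ⟨θ, hθl, hθ⟩ := hS₀.exists_lift S φ horig
  letI : Algebra A₀ R[X] := jA.toAlgebra
  let E₀ := R[X] ⊗[A₀] B₀
  letI aS : Algebra R[X] S := φ.toAlgebra
  haveI : IsScalarTower A₀ R[X] S := IsScalarTower.of_algebraMap_eq (R := A₀) (S := R[X]) (A := S) fun a => by
    show algebraMap A[X] S (a : A[X]) = algebraMap A[X] S (μ (jA a))
    rw [hjA]
  let eb : B₀ →ₐ[A₀] S :=
    { ιE.toRingHom.comp (e.symm.toRingEquiv.toRingHom.comp
        (Algebra.TensorProduct.includeRight : B₀ →ₐ[A₀] A[X] ⊗[A₀] B₀).toRingHom) with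
      commutes' := fun a => by
        show ιE (e.symm ((1 : A[X]) ⊗ₜ[A₀] algebraMap A₀ B₀ a)) = algebraMap A[X] S (a : A[X])
        rw [show (1 : A[X]) ⊗ₜ[A₀] algebraMap A₀ B₀ a = algebraMap A[X] (A[X] ⊗[A₀] B₀) (a : A[X]) by
          rw [Algebra.algebraMap_eq_smul_one, tmul_smul, smul_tmul']
          exact congrArg (· ⊗ₜ[A₀] (1 : B₀)) (mul_one (a : A[X])), e.symm.commutes, ιE.commutes] }
  let ε : E₀ →ₐ[R[X]] S := Algebra.TensorProduct.lift (Algebra.ofId R[X] S) eb fun _ _ => Commute.all _ _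
  have hεS : ∀ (p : R[X]) (b : B₀), ε (p ⊗ₜ[A₀] b) = algebraMap A[X] S (μ p) * ιE (e.symm (1 ⊗ₜ[A₀] b)) := fun p b =>
    Algebra.TensorProduct.lift_tmul _ _ _ p b
  have hFε : ∀ f ∈ F, f ∈ ε.range := fun f hf => by
    have h1 : f = ιE (y f) := by
      show f = eS (Sys0.ι j (y f))
      rw [hy f hf, AlgEquiv.apply_symm_apply]
    rw [h1, show y f = e.symm (∑ t ∈ T f, t.1 ⊗ₜ[A₀] t.2) by rw [← hT, AlgEquiv.symm_apply_apply], map_sum, map_sum]
    refine Subalgebra.sum_mem _ fun t ht => ?_
    obtain ⟨q, hq⟩ := hlift t.1 fun c hc => hGι c (Finset.mem_union_right _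
      (Finset.mem_biUnion.2 ⟨f, hf, Finset.mem_biUnion.2 ⟨t, ht, hc⟩⟩))
    refine ⟨q ⊗ₜ[A₀] t.2, ?_⟩
    show ε (q ⊗ₜ[A₀] t.2) = _
    rw [hεS, hq, ← ιE.commutes, ← map_mul, ← e.symm.commutes, ← map_mul]
    congr 2
    rw [Algebra.TensorProduct.algebraMap_apply, Algebra.TensorProduct.tmul_mul_tmul, one_mul]
    exact congrArg (· ⊗ₜ[A₀] t.2) (mul_one t.1)
  let kR := ResidueField R
  let jS : A →+* S := (algebraMap A[X] S).comp C
  let j₀ : R →+* S₀ := (algebraMap R[X] S₀).comp C
  have hloc : ∀ {R' S' : Type u} [CommRing R'] [IsLocalRing R'] [CommRing S'] [IsLocalRing S'] [Algebra R'[X] S']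
      (h' : IsShLine R' S'), IsLocalHom ((algebraMap R'[X] S').comp C) := fun {R' S'} _ _ _ _ _ h' => ⟨fun r hr => by
    by_contra hn
    have h2 : C r ∈ (maximalIdeal S').comap (algebraMap R'[X] S') := by
      rw [h'.origin, Ideal.mem_comap, coe_evalRingHom, eval_C]
      exact hn
    exact h2 hr⟩
  haveI : IsLocalHom jS := hloc h
  haveI : IsLocalHom j₀ := hloc hS₀
  let c : kR →+* ResidueField S := (ResidueField.map jS).comp (ResidueField.map ι)
  let r₀ : kR →+* ResidueField S₀ := ResidueField.map j₀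
  letI : Algebra kR (ResidueField S) := c.toAlgebra
  letI : Algebra R[X] kR := ((residue R).comp (evalRingHom 0)).toAlgebra
  have hcres : ∀ p : R[X], residue S (φ p) = c (residue R (p.eval 0)) := fun p => by
    show residue S (algebraMap A[X] S (μ p)) = residue S (algebraMap A[X] S (C (ι (p.eval 0))))
    rw [← sub_eq_zero, ← map_sub, ← map_sub, residue_eq_zero_iff, ← Ideal.mem_comap, h.origin, Ideal.mem_comap,
      coe_evalRingHom, eval_sub, eval_C, coe_mapRingHom, ← ι.map_zero, eval_map_apply, sub_self]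
    exact zero_mem _
  haveI : IsScalarTower R[X] kR (ResidueField S) :=
    IsScalarTower.of_algebraMap_eq (R := R[X]) (S := kR) (A := ResidueField S) fun p => hcres p
  have hρ : ∀ z : E₀, residue S (ε z) ∈ c.range := fun z =>
    mem_range_of_etale (k := kR) ((IsScalarTower.toAlgHom R[X] S (ResidueField S)).comp ε) z
  choose ρ hρ' using hρ
  let ρ₀ : E₀ →+* kR :=
    { toFun := ρ
      map_one' := c.injective (by rw [hρ', map_one, map_one, map_one])
      map_mul' := fun a b => c.injective (by rw [hρ', map_mul, map_mul, map_mul, hρ', hρ'])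
      map_zero' := c.injective (by rw [hρ', map_zero, map_zero, map_zero])
      map_add' := fun a b => c.injective (by rw [hρ', map_add, map_add, map_add, hρ', hρ']) }
  let σ₀ : E₀ →ₐ[R[X]] S₀ ⧸ maximalIdeal S₀ :=
    { r₀.comp ρ₀ with
      commutes' := fun p => by
        have h1 : ρ₀ (algebraMap R[X] E₀ p) = residue R (p.eval 0) := c.injective (by
          show c (ρ _) = _
          rw [hρ', ε.commutes]
          exact hcres p)
        show r₀ (ρ₀ (algebraMap R[X] E₀ p)) = residue S₀ (algebraMap R[X] S₀ p)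
        rw [h1]
        show residue S₀ (algebraMap R[X] S₀ (C (p.eval 0))) = _
        rw [← sub_eq_zero, ← map_sub, ← map_sub, residue_eq_zero_iff, ← Ideal.mem_comap, hS₀.origin, Ideal.mem_comap,
          coe_evalRingHom, eval_sub, eval_C, sub_self]
        exact zero_mem _ }
  obtain ⟨β, hβ, -⟩ := Hensel.existsUnique_etale_lift_of_algebra (maximalIdeal S₀) σ₀
  let θa : S₀ →ₐ[R[X]] S := { θ with commutes' := fun p => congr($hθ p) }
  have hθβ : θa.comp β = ε := Hensel.algHom_ext_of_le_jacobson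
    (IsLocalRing.jacobson_eq_maximalIdeal (R := S) ⊥ bot_ne_top).ge _ _ fun z => by
      rw [← residue_eq_zero_iff, map_sub, sub_eq_zero, ← hρ']
      show residue S (θ (β z)) = _
      have h1 : residue S₀ (β z) = r₀ (ρ z) := congr($hβ z)
      obtain ⟨w, hw⟩ := residue_surjective (ρ z)
      rw [← hw] at h1 ⊢
      rw [← ResidueField.map_residue θ, h1]
      show residue S (θ (algebraMap R[X] S₀ (C w))) = residue S (algebraMap A[X] S (C (ι w)))
      rw [show θ (algebraMap R[X] S₀ (C w)) = algebraMap A[X] S (μ (C w)) from congr($hθ (C w))]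
      exact congrArg (fun t => residue S (algebraMap A[X] S t)) (map_C ι)
  refine ⟨R, inferInstance, inferInstance, inferInstance, inferInstance, inferInstance, inferInstance, ι, inferInstance,
    S₀, inferInstance, inferInstance, inferInstance, θ, hθl, hι,
    fun x hx => hGι x (Finset.mem_union_left _ (Finset.mem_union_left _ hx)), hS₀, hN, hGS, hθ, fun f hf => ?_⟩
  obtain ⟨z, hz⟩ := hFε f hf
  exact ⟨β z, (congr($hθβ z)).trans hz⟩

end Groth.Agent.SmAcyc
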