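import Groth.Agent.SmAcyc.Core.Setup
import Groth.Agent.S0149
import Groth.Agent.S0733
import Groth.Agent.EtFound.TorsionCoh
import Mathlib.RingTheory.Unramified.LocalStructure
import Mathlib.RingTheory.Etale.Basic
import Mathlib.RingTheory.KrullDimension.Polynomial

/-!
# Cohomological dimension of the generic fibre of a strictly local line
-/

set_option autoImplicit false
set_option linter.style.haveILetI false
set_option backward.isDefEq.respectTransparency false
set_option backward.isDefEq.respectTransparency.types false

universe u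

open CategoryTheory CategoryTheory.Limits AlgebraicGeometry Opposite
open scoped TensorProduct

namespace Groth.Agent.SmAcyc

/-- affine curves over algebraically closed fields have cohomological dimension at most one -/
def AffineCurveCd : Prop :=
  ∀ (k : Type u) [Field k] [IsAlgClosed k] (X : Scheme.{u}) [IsAffine X]
    (f : X ⟶ Spec (CommRingCat.of k)) [LocallyOfFiniteType f],
    topologicalKrullDim X ≤ 1 → EtCoh.CohDimLE X 1

/-- étale algebras over a principal ideal domain have dimension at most one -/
theorem ringKrullDim_le_one_of_etale (k : Type u) [Field k] (E : Type u) [CommRing E] [Algebra (Polynomial k) E]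
    [Algebra.Etale (Polynomial k) E] : ringKrullDim E ≤ 1 := by
  have h1 : ringKrullDim (Polynomial k) ≤ 1 := by
    rw [Polynomial.ringKrullDim_of_isNoetherianRing, ringKrullDim_eq_zero_of_field, zero_add]
  refine le_trans (Order.krullDim_le_of_strictMono (PrimeSpectrum.comap (algebraMap (Polynomial k) E)) fun P Q hPQ =>
    lt_of_le_of_ne (Ideal.comap_mono hPQ.le) fun he => hPQ.ne (PrimeSpectrum.ext ?_)) h1
  exact Algebra.QuasiFinite.eq_of_le_of_under_eq (R := Polynomial k) P.asIdeal Q.asIdeal hPQ.le
    (congrArg PrimeSpectrum.asIdeal he)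

/-- ind-étale algebras over the line over an algebraically closed field have cohomological dimension at most one -/
theorem cohDimLE_of_indEtale (hcd : AffineCurveCd.{u}) (k : Type u) [Field k] [IsAlgClosed k] (E : Type u)
    [CommRing E] [Algebra (Polynomial k) E] (hE : EtPBC.IsIndEtale (Polynomial k) E)
    (F : CommRingCat.{u}) (e : E ≃+* F) : EtCoh.CohDimLE (Spec F) 1 := by
  obtain ⟨Sy, hSy, ⟨eS⟩⟩ := IndEtLib.exists_sys hE
  let T := Sy.D ⋙ Under.forget (CommRingCat.of (Polynomial k))
  haveI : IsConnected Sy.J := IsFiltered.isConnected _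
  let c₀ : Cocone T := (Under.forget _).mapCocone Sy.c
  have hc₀ : IsColimit c₀ := isColimitOfPreserves _ Sy.hc
  let φ : c₀.pt ≅ F := (eS.toRingEquiv.trans e).toCommRingCatIso
  let c₁ : Cocone T := c₀.extend φ.hom
  have hc₁ : IsColimit c₁ := IsColimit.ofIsoColimit hc₀ (Cocone.ext φ fun _ => rfl)
  let D : Sy.Jᵒᵖ ⥤ Scheme.{u} := T.op ⋙ Scheme.Spec
  let c : Cone D := Scheme.Spec.mapCone c₁.op
  have hc : IsLimit c := isLimitOfPreserves Scheme.Spec hc₁.op
  haveI : ∀ {i j : Sy.Jᵒᵖ} (a : i ⟶ j), IsAffineHom (D.map a) := fun a =>
    inferInstanceAs (IsAffineHom (Spec.map (T.map a.unop)))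
  haveI : ∀ i, CompactSpace (D.obj i) := fun i => inferInstanceAs (CompactSpace (Spec (T.obj i.unop)))
  haveI : ∀ i, QuasiSeparatedSpace (D.obj i) := fun i =>
    inferInstanceAs (QuasiSeparatedSpace (Spec (T.obj i.unop)))
  refine S0149.result D c hc 1 fun i => ?_
  let A := Sy.A i.unop
  haveI : Algebra.Etale (Polynomial k) A := hSy i.unop
  letI : Algebra k A := ((algebraMap (Polynomial k) A).comp Polynomial.C).toAlgebra
  haveI : IsScalarTower k (Polynomial k) A := IsScalarTower.of_algebraMap_eq fun _ => rfl
  haveI : Algebra.FiniteType k A := Algebra.FiniteType.trans (S := Polynomial k) inferInstance inferInstance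
  let f : Spec (CommRingCat.of A) ⟶ Spec (CommRingCat.of k) := Spec.map (CommRingCat.ofHom (algebraMap k A))
  haveI : LocallyOfFiniteType f := by
    rw [HasRingHomProperty.Spec_iff (P := @LocallyOfFiniteType)]
    exact RingHom.finiteType_algebraMap.2 inferInstance
  refine hcd k (Spec (CommRingCat.of A)) f ?_
  exact (PrimeSpectrum.topologicalKrullDim_eq_ringKrullDim (R := A)).trans_le (ringKrullDim_le_one_of_etale k A)

variable {A S : Type u} [CommRing A] [IsLocalRing A] [CommRing S] [IsLocalRing S] [Algebra (Polynomial A) S]

/-- the standard model of the generic fibre -/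
noncomputable abbrev genFibre (S : Type u) [CommRing S] {A : Type u} [CommRing A] [Algebra (Polynomial A) S]
    (K : Type u) [Field K] [Algebra A K] : CommRingCat.{u} :=
  letI : Algebra (Polynomial A) (Polynomial K) := (Polynomial.mapRingHom (algebraMap A K)).toAlgebra
  CommRingCat.of (S ⊗[Polynomial A] Polynomial K)

noncomputable instance genFibreAlgebra (S : Type u) [CommRing S] {A : Type u} [CommRing A] [Algebra (Polynomial A) S]
    (K : Type u) [Field K] [Algebra A K] : Algebra S (genFibre S (A := A) K) :=
  letI : Algebra (Polynomial A) (Polynomial K) := (Polynomial.mapRingHom (algebraMap A K)).toAlgebra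
  inferInstanceAs (Algebra S (S ⊗[Polynomial A] Polynomial K))

instance genFibre_isLocalization (S : Type u) [CommRing S] {A : Type u} [CommRing A] [Algebra (Polynomial A) S]
    (K : Type u) [Field K] [Algebra A K] [IsFractionRing A K] :
    IsLocalization ((nonZeroDivisors A).map ((algebraMap (Polynomial A) S).comp Polynomial.C).toMonoidHom)
      (genFibre S (A := A) K) := by
  letI : Algebra (Polynomial A) (Polynomial K) := (Polynomial.mapRingHom (algebraMap A K)).toAlgebra
  haveI : IsLocalization ((nonZeroDivisors A).map Polynomial.C) (Polynomial K) :=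
    Polynomial.isLocalization (nonZeroDivisors A) K
  rw [show (nonZeroDivisors A).map ((algebraMap (Polynomial A) S).comp Polynomial.C).toMonoidHom =
    Algebra.algebraMapSubmonoid S ((nonZeroDivisors A).map Polynomial.C) from
      (Submonoid.map_map _ (algebraMap (Polynomial A) S).toMonoidHom Polynomial.C.toMonoidHom).symm]
  exact IsLocalization.tensor (Polynomial K) _

/-- cohomological dimension of the generic fibre -/
theorem IsShLine.cohDimLE_genFibre (h : IsShLine A S) (hcd : AffineCurveCd.{u}) (K : Type u) [Field K] [IsAlgClosed K]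
    [Algebra A K] : EtCoh.CohDimLE (Spec (genFibre S (A := A) K)) 1 := by
  letI : Algebra (Polynomial A) (Polynomial K) := (Polynomial.mapRingHom (algebraMap A K)).toAlgebra
  exact cohDimLE_of_indEtale hcd K _ (S0733.result (Polynomial A) S (Polynomial K) h.indEtale) _
    (Algebra.TensorProduct.comm (Polynomial A) (Polynomial K) S).toRingEquiv

end Groth.Agent.SmAcyc
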