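import Groth.Agent.SmAcyc.Core.H1
import Groth.Agent.SmAcyc.Core.HighDeg
import Groth.Agent.SmAcyc.Core.BaseAlg
import Groth.Agent.SmAcyc.Core.BaseGeo
import Groth.Agent.S0642
import Groth.Agent.EtTrace.CohDim
import Groth.Agent.MorLib.RingUnivHomeo
import Mathlib.FieldTheory.IsAlgClosed.AlgebraicClosure
import Mathlib.RingTheory.Algebraic.Integral

/-!
# The geometric fibres of strict localizations of the affine line are acyclic
-/

set_option autoImplicit false
set_option linter.style.haveILetI false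
set_option backward.isDefEq.respectTransparency false
set_option backward.isDefEq.respectTransparency.types false
set_option maxHeartbeats 1000000

universe u

open CategoryTheory CategoryTheory.Limits AlgebraicGeometry Opposite IsLocalRing TensorProduct

namespace Groth.Agent.SmAcyc

open Groth.Agent.EtLimit Groth.Agent.EtFound Groth.Agent.EtBC

/-- acyclicity passes down along radicial integral surjections -/
theorem isAcyclicSchemeN_of_radicial {Q P : Scheme.{u}} (i : Q ⟶ P) [IsIntegralHom i] [UniversallyInjective i]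
    [Surjective i] {L : Set ℕ} {n : ℕ} (hQ : EtAcyc.IsAcyclicSchemeN L n Q) : EtAcyc.IsAcyclicSchemeN L n P := by
  haveI := hQ.1
  haveI := hQ.2.1
  haveI : PreservesFiniteLimits (EtCoh.pull i) := pull_preservesFiniteLimits _
  refine ⟨⟨i (Classical.arbitrary Q)⟩, (Surjective.surj (f := i)).connectedSpace i.continuous,
    fun ℓ hℓ hℓL q h1 h2 => ?_⟩
  haveI := hQ.2.2 ℓ hℓ hℓL q h1 h2
  haveI := (hmap_bijective_of_isIso (EtCore.pullConst i (ZMod ℓ)).hom q).1.subsingleton
  exact (S0642.result i (EtCoh.const P (ZMod ℓ)) q).1.subsingleton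

/-- constant sheaves of residues are torsion -/
theorem isTorsion_const (X : Scheme.{u}) (ℓ : ℕ) (hℓ : 0 < ℓ) : EtCoh.IsTorsion (EtCoh.const X (ZMod ℓ)) := by
  refine EtTrace.isTorsion_of_nsmul_id hℓ ?_
  let C := constantSheaf X.smallEtaleTopology AddCommGrpCat.{u + 1}
  haveI : C.Additive := (EtCore.constAdj X).left_adjoint_additive
  have h : ℓ • 𝟙 (AddCommGrpCat.of (ULift.{u + 1} (ZMod ℓ))) = 0 := AddCommGrpCat.ext fun m => ULift.ext _ _ (by
    show ℓ • m.down = 0
    rw [nsmul_eq_mul, ZMod.natCast_self, zero_mul])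
  show ℓ • 𝟙 (C.obj _) = 0
  rw [← C.map_id, ← Functor.map_nsmul, h, Functor.map_zero]

/-- the normalization in an algebraically closed field is absolutely integrally closed and strictly local -/
theorem exists_aic {RY : Type u} [CommRing RY] [HenselianLocalRing RY] {Ω : Type u} [Field Ω] [Algebra RY Ω]
    (hmul : ∀ z : Ω, ∃ c : RY, algebraMap RY Ω c ≠ 0 ∧ IsIntegral RY (algebraMap RY Ω c * z))
    (K : Type u) [Field K] [IsAlgClosed K] [Algebra Ω K] [Algebra.IsAlgebraic Ω K] [Algebra RY K]
    [IsScalarTower RY Ω K] :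
    ∃ (A' : Subalgebra RY K) (_ : HenselianLocalRing A') (_ : IsLocalHom (algebraMap RY A')),
      IsIntegrallyClosed A' ∧ IsFractionRing A' K ∧ IsAlgClosed (ResidueField A') ∧ Algebra.IsIntegral RY A' := by
  let A' := integralClosure RY K
  haveI : Algebra.IsIntegral RY A' := IsIntegralClosure.isIntegral_algebra RY K
  haveI : IsLocalRing A' := Hensel.isLocalRing_of_isIntegral_domain RY A'
  haveI : HenselianLocalRing A' := Hensel.henselianLocalRing_of_isIntegral_local RY A'
  haveI hloc : IsLocalHom (algebraMap RY A') := Hensel.isLocalHom_of_isIntegral_local RY A'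
  have hsmall : ∀ z : K, ∃ c : RY, algebraMap RY K c ≠ 0 ∧ IsIntegral RY (algebraMap RY K c * z) := by
    intro z
    let R0 := (algebraMap RY Ω).range
    haveI : FaithfulSMul R0 Ω := inferInstance
    haveI : Algebra.IsAlgebraic R0 Ω := ⟨fun w => by
      obtain ⟨c, hc, hi⟩ := hmul w
      obtain ⟨p, hp, hpw⟩ := hi
      refine IsAlgebraic.of_mul (y := algebraMap RY Ω c) ?_ (isAlgebraic_algebraMap (⟨_, c, rfl⟩ : R0)) ?_
      · exact mem_nonZeroDivisors_of_ne_zero hc
      · refine ⟨p.map (algebraMap RY Ω).rangeRestrict, (hp.map _).ne_zero, ?_⟩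
        rw [Polynomial.aeval_def, Polynomial.eval₂_map]
        exact hpw⟩
    letI : Algebra R0 K := ((algebraMap Ω K).comp (algebraMap R0 Ω)).toAlgebra
    haveI : IsScalarTower R0 Ω K := IsScalarTower.of_algebraMap_eq fun _ => rfl
    haveI : Algebra.IsAlgebraic R0 K := Algebra.IsAlgebraic.trans R0 Ω K
    obtain ⟨⟨y, c, rfl⟩, hy, p, hp, hpz⟩ := (Algebra.IsAlgebraic.isAlgebraic (R := R0) z).exists_integral_multiple
    refine ⟨c, fun h0 => hy (Subtype.ext ?_), ?_⟩
    · rw [IsScalarTower.algebraMap_apply RY Ω K] at h0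
      exact (map_eq_zero _).1 h0
    · obtain ⟨q, hq, -, hqm⟩ := Polynomial.lifts_and_natDegree_eq_and_monic
        ((Polynomial.lifts_iff_coeff_lifts p).2 fun n => (algebraMap RY Ω).rangeRestrict_surjective _) hp
      refine ⟨q, hqm, ?_⟩
      rw [← hq, Polynomial.eval₂_map] at hpz
      rw [IsScalarTower.algebraMap_eq RY Ω K]
      exact hpz
  haveI hfrac : IsFractionRing A' K := IsFractionRing.of_field A' K fun z => by
    obtain ⟨c, hc, hi⟩ := hsmall z
    exact ⟨⟨_, hi⟩, algebraMap RY A' c, (eq_div_iff (b := algebraMap RY K c) hc).2 (mul_comm z _)⟩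
  refine ⟨A', inferInstance, hloc, ?_, hfrac, ?_, inferInstance⟩
  · exact (isIntegrallyClosed_iff K).2 fun {z} hz => by
      have : IsIntegral RY z := isIntegral_trans z hz
      exact ⟨⟨z, this⟩, rfl⟩
  · refine IsAlgClosed.of_exists_root _ fun p hp hirr => ?_
    obtain ⟨q, hq, hdeg, hqm⟩ := Polynomial.lifts_and_natDegree_eq_and_monic
      ((Polynomial.lifts_iff_coeff_lifts p).2 fun n => IsLocalRing.residue_surjective _) hp
    have hd : q.natDegree ≠ 0 := by
      rw [hdeg]
      exact hirr.natDegree_pos.ne'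
    obtain ⟨z, hz⟩ := IsAlgClosed.exists_root (q.map (algebraMap A' K)) (by
      rw [hqm.degree_map, Polynomial.degree_eq_natDegree hqm.ne_zero]
      exact_mod_cast hd)
    have hzi : IsIntegral RY z := isIntegral_trans (R := RY) (A := A') z ⟨q, hqm, by
      rw [← Polynomial.eval_map]
      exact hz⟩
    refine ⟨residue A' ⟨z, hzi⟩, ?_⟩
    rw [← hq, Polynomial.eval_map, Polynomial.eval₂_hom, show q.eval (⟨z, hzi⟩ : A') = 0 from ?_, map_zero]
    refine Subtype.val_injective ?_
    show (algebraMap A' K) (q.eval (⟨z, hzi⟩ : A')) = 0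
    rw [← Polynomial.eval₂_hom, ← Polynomial.eval_map]
    exact hz

set_option maxHeartbeats 2000000 in
/-- the geometric fibres at points of the line finite over the base -/
theorem coreAcyc (hcd : AffineCurveCd.{u}) {ℓ : ℕ} (hℓ : ℓ.Prime) (n : ℕ) : CoreAcyc.{u} ℓ n := by
  intro A _ huA x hx RY RX _ _ _ _ _ _ _ _ _ _ ψ _ hψ
  obtain ⟨a₁, a₂, hψe, hT, hind, halg, hunit⟩ := exists_line_data A x hx RY RX ψ hψ
  letI := a₁
  letI := a₂
  haveI := hT
  subst hψe
  haveI : HenselianLocalRing RY := (‹Hensel.IsStrictHenselization _ RY›).henselian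
  haveI : IsSepClosed (ResidueField RY) := (‹Hensel.IsStrictHenselization _ RY›).isSepClosure.sep_closed
  haveI : HenselianLocalRing RX := (‹Hensel.IsStrictHenselization _ RX›).henselian
  haveI : IsSepClosed (ResidueField RX) := (‹Hensel.IsStrictHenselization _ RX›).isSepClosure.sep_closed
  haveI : Algebra.IsAlgebraic (ResidueField RY) (ResidueField RX) := by
    have e : (ResidueField.map (algebraMap RY RX)).toAlgebra =
        (ResidueField.instAlgebra : Algebra (ResidueField RY) (ResidueField RX)) := by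
      refine Algebra.algebra_ext _ _ fun r => ?_
      obtain ⟨r, rfl⟩ := IsLocalRing.residue_surjective r
      rfl
    exact e ▸ halg
  intro y Ω _ _ _ _
  let gp := EtAcyc.geomPt (Spec (CommRingCat.of RY)) y Ω
  obtain ⟨φ, hφ⟩ : ∃ φ : RY →+* Ω, Spec.map (CommRingCat.ofHom φ) = gp :=
    ⟨(Spec.preimage gp).hom, Spec.map_preimage gp⟩
  letI : Algebra RY Ω := φ.toAlgebra
  have hev : ∀ c, AcycBase.ptEval gp c = φ ((Scheme.ΓSpecIso (CommRingCat.of RY)).hom c) := fun c => by
    show ((gp.appTop ≫ (Scheme.ΓSpecIso (CommRingCat.of Ω)).hom)) c = _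
    rw [← hφ, Scheme.ΓSpecIso_naturality]
    rfl
  have hmul : ∀ z : Ω, ∃ c : RY, algebraMap RY Ω c ≠ 0 ∧ IsIntegral RY (algebraMap RY Ω c * z) := fun z => by
    obtain ⟨c, hc, p, hp, hpz⟩ := AcycBase.exists_integral_multiple y Ω z
    refine ⟨(Scheme.ΓSpecIso (CommRingCat.of RY)).hom c, fun h0 => hc ((hev c).trans h0),
      p.map (Scheme.ΓSpecIso (CommRingCat.of RY)).hom.hom, hp.map _, ?_⟩
    rw [Polynomial.eval₂_map]
    rw [show (algebraMap RY Ω).comp (Scheme.ΓSpecIso (CommRingCat.of RY)).hom.hom = AcycBase.ptEval gp from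
      RingHom.ext fun d => (hev d).symm, show algebraMap RY Ω _ = AcycBase.ptEval gp c from (hev c).symm]
    exact hpz
  let K := AlgebraicClosure Ω
  obtain ⟨A', hA'h, hA'l, hA'ic, hA'f, hA'k, hA'int⟩ := exists_aic hmul K
  haveI := hA'h
  haveI := hA'l
  haveI := hA'ic
  haveI := hA'f
  haveI := hA'k
  haveI := hA'int
  obtain ⟨a, hloc, hS⟩ := exists_isShLine_baseChange RY RX hind A'
  haveI := hloc
  let S := A' ⊗[RY] RX
  letI := shiftAlg RY RX A' a
  let F := CommRingCat.of (K ⊗[RY] RX)
  letI : Algebra S F :=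
    (Algebra.TensorProduct.map (IsScalarTower.toAlgHom RY A' K) (AlgHom.id RY RX)).toRingHom.toAlgebra
  haveI : IsLocalization ((nonZeroDivisors A').map (baseHom A' S).toMonoidHom) F := by
    rw [show (nonZeroDivisors A').map (baseHom A' S).toMonoidHom =
      Algebra.algebraMapSubmonoid (A' ⊗[RY] RX) (nonZeroDivisors A') from
        congrArg (fun f : A' →+* S => (nonZeroDivisors A').map f.toMonoidHom)
          (RingHom.ext fun b => Polynomial.aeval_C _ b)]
    haveI : IsScalarTower A' (A' ⊗[RY] RX) (K ⊗[RY] RX) := IsScalarTower.of_algebraMap_eq fun b => by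
      show algebraMap A' K b ⊗ₜ[RY] (1 : RX) =
        (Algebra.TensorProduct.map (IsScalarTower.toAlgHom RY A' K) (AlgHom.id RY RX)) (b ⊗ₜ[RY] (1 : RX))
      rw [Algebra.TensorProduct.map_tmul]
      rfl
    refine IsLocalization.tensorProduct_tensorProduct RY RX (nonZeroDivisors A') K (RingHom.ext fun r => ?_)
    show (Algebra.TensorProduct.map (IsScalarTower.toAlgHom RY A' K) (AlgHom.id RY RX)) ((1 : A') ⊗ₜ[RY] r) =
      (1 : K) ⊗ₜ[RY] r
    rw [Algebra.TensorProduct.map_tmul, map_one]
    rfl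
  haveI : IsSepClosed (ResidueField A') := inferInstance
  have hu' : IsUnit (ℓ : A') := map_natCast (algebraMap RY A') ℓ ▸ (hunit ℓ huA).map _
  have hF : EtAcyc.IsAcyclicSchemeN ({ℓ} : Set ℕ) n (Spec F) := by
    obtain ⟨h0, h0'⟩ := hS.fibre_connected F
    refine ⟨h0, h0', fun ℓ' hℓ' hmem q hq1 hqn => ?_⟩
    obtain rfl : ℓ' = ℓ := hmem
    rcases Nat.eq_or_lt_of_le hq1 with rfl | hq
    · exact hS.subsingleton_H1 hℓ' hu' K F
    · letI := shiftAlg RY RX K 0
      exact cohDimLE_of_indEtale hcd K (K ⊗[RY] RX) (isIndEtale_shift RY RX hind K 0) F (RingEquiv.refl _) _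
        (isTorsion_const _ ℓ' hℓ'.pos) q hq
  let j : Spec (CommRingCat.of K) ⟶ Spec (CommRingCat.of Ω) := Spec.map (CommRingCat.ofHom (algebraMap Ω K))
  haveI : IsIntegralHom j :=
    IsIntegralHom.SpecMap_iff.2 (algebraMap_isIntegral_iff.2 Algebra.IsAlgebraic.isIntegral)
  haveI : UniversallyInjective j := (MorLib.RUH.universallyInjective_SpecMap_iff _).2 fun L _ f g h => by
    letI : Algebra Ω L := (f.comp (algebraMap Ω K)).toAlgebra
    have := Subsingleton.elim ({ f with commutes' := fun _ => rfl } : K →ₐ[Ω] L)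
      { g with commutes' := fun w => congr($h w).symm }
    exact RingHom.ext fun w => congr($this w)
  haveI : Surjective j := ⟨fun p => ⟨default, Subsingleton.elim (α := PrimeSpectrum Ω) _ _⟩⟩
  let h := Spec.map (CommRingCat.ofHom (algebraMap RY RX))
  let i : pullback (pullback.snd h gp) j ⟶ pullback h gp := pullback.fst (pullback.snd h gp) j
  haveI : IsIntegralHom i := MorphismProperty.pullback_fst _ _ ‹IsIntegralHom j›
  haveI : UniversallyInjective i := MorphismProperty.pullback_fst _ _ ‹UniversallyInjective j›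
  haveI : Surjective i := MorphismProperty.pullback_fst _ _ ‹Surjective j›
  have hjg : j ≫ gp = Spec.map (CommRingCat.ofHom (algebraMap RY K)) := by
    rw [← hφ, ← Spec.map_comp, ← CommRingCat.ofHom_comp, IsScalarTower.algebraMap_eq RY Ω K]
    rfl
  let e : pullback (pullback.snd h gp) j ≅ Spec F :=
    pullbackLeftPullbackSndIso h gp j ≪≫ pullback.congrHom rfl hjg ≪≫ pullbackSymmetry _ _ ≪≫ pullbackSpecIso RY K RX
  exact isAcyclicSchemeN_of_radicial i (AcycCover.isAcyclicSchemeN_of_iso e hF)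

end Groth.Agent.SmAcyc
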