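import Groth.Agent.S8531
import Groth.Agent.S0108
import Groth.Agent.EtFound.PullExt
import Groth.Agent.EtFound.Excision
import Groth.Agent.EtLC12.MuConst
import Groth.Agent.GabberAff13.Kill
import Groth.Agent.GabberAff13.ProperH1
import Groth.Agent.EtTrace.H1Point
import Groth.Agent.SiteBase.NormalUnit.Open

/-!
# Kummer classes on normal integral schemes through rational functions
-/

set_option autoImplicit false
set_option linter.style.haveILetI false
set_option backward.isDefEq.respectTransparency false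
set_option backward.isDefEq.respectTransparency.types false
set_option maxHeartbeats 1000000

universe u

open CategoryTheory CategoryTheory.Limits AlgebraicGeometry Opposite CategoryTheory.Abelian

namespace Groth.Agent.SmAcyc.Kummer

open Groth.Agent.EtFound Groth.Agent.EtMVLib

variable {X : Scheme.{u}}

/-- `ℤ[W] ⟶ ℤ` -/
noncomputable def toConst (W : X.Etale) : freeOn W ⟶ EtCoh.const X ℤ :=
  (exists_free_hom ((EtCoh.const X ℤ).obj.map ((EtCore.topIsTerminal X).from W).op (constVal (𝟙 _)))).choose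

theorem freeVal_toConst (W : X.Etale) :
    freeVal (toConst W) = (EtCoh.const X ℤ).obj.map ((EtCore.topIsTerminal X).from W).op (constVal (𝟙 _)) :=
  (exists_free_hom ((EtCoh.const X ℤ).obj.map ((EtCore.topIsTerminal X).from W).op (constVal (𝟙 _)))).choose_spec

/-- `ℤ[W'] ⟶ ℤ[W]` -/
noncomputable def freeMap {W' W : X.Etale} (m : W' ⟶ W) : freeOn W' ⟶ freeOn W :=
  (exists_free_hom ((freeOn W).obj.map m.op (freeVal (𝟙 (freeOn W))))).choose

theorem freeVal_freeMap_comp {W' W : X.Etale} (m : W' ⟶ W) {F : EtCoh.Ab X} (ψ : freeOn W ⟶ F) :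
    freeVal (freeMap m ≫ ψ) = F.obj.map m.op (freeVal ψ) := by
  rw [freeVal_comp]
  refine (congrArg (ψ.hom.app (op W'))
    (exists_free_hom ((freeOn W).obj.map m.op (freeVal (𝟙 (freeOn W))))).choose_spec).trans ?_
  refine (NatTrans.naturality_apply ψ.hom m.op _).trans ?_
  exact congrArg (F.obj.map m.op) ((freeVal_comp (𝟙 (freeOn W)) ψ).symm.trans (congrArg freeVal (Category.id_comp ψ)))

theorem freeMap_toConst {W' W : X.Etale} (m : W' ⟶ W) : freeMap m ≫ toConst W = toConst W' := by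
  refine free_ext ?_
  rw [freeVal_freeMap_comp, freeVal_toConst, freeVal_toConst, ← ConcreteCategory.comp_apply, ← Functor.map_comp,
    ← op_comp]
  exact congrArg (fun t => (EtCoh.const X ℤ).obj.map (Quiver.Hom.op t) (constVal (𝟙 _)))
    ((EtCore.topIsTerminal X).hom_ext _ _)

theorem ptMap_toConst {Z : Scheme.{u}} (h : Z ⟶ X) [PreservesFiniteLimits (EtCoh.pull h)] (W : X.Etale)
    (ρ : Z ⟶ W.left) (e : ρ ≫ W.hom = h) (F : EtCoh.Ab X) (n : ℕ) (x : EtCoh.H X F n) :
    ptMap h W ρ e F n ((Ext.mk₀ (toConst W)).comp x (zero_add n)) = EtCore.Hpull h F n x := by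
  have key : ptGen h W ρ e ≫ (EtCoh.pull h).map (toConst W) = (EtCore.pullConst h ℤ).inv := by
    rw [← Category.comp_id (EtCore.pullConst h ℤ).inv, ← CategoryTheory.Functor.map_id]
    apply (constVal_bijective _).1
    rw [constVal_ptGen_map, constVal_pullConst, freeVal_toConst]
    have e' : h ≫ (EtCoh.top X).hom = h := Category.comp_id _
    rw [pullSec_eq_atPt h e']
    exact ConcreteCategory.congr_hom
      (atPt_map h ((EtCore.topIsTerminal X).from W) ρ e h
        (e.symm.trans ((congrArg (ρ ≫ ·) ((MorphismProperty.Over.w ((EtCore.topIsTerminal X).from W)).symm.trans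
          (Category.comp_id _))))) e' _) (constVal (𝟙 _))
  show hp (EtCoh.pull h) _ _ _ _ = _
  rw [hp_apply, Ext.mapExactFunctor_comp, Ext.mapExactFunctor_mk₀, Ext.mk₀_comp_mk₀_assoc, key, EtMVLib.Hpull_apply]

/-- the étale object of an open -/
noncomputable abbrev et (U : X.Opens) : X.Etale := Scheme.Etale.mk U.ι

/-- inclusions -/
noncomputable def etMap {U' U : X.Opens} (hle : U' ≤ U) : et U' ⟶ et U :=
  MorphismProperty.Over.homMk (X.homOfLE hle) (X.homOfLE_ι hle)

/-- the value of a section of `G_m` -/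
noncomputable def gval {W : X.Etale} (t : (EtCoh.Gm X).obj.obj (op W)) : Γ(W.left, ⊤) :=
  (Additive.toMul (ULift.down t : Additive Γ(W.left, ⊤)ˣ) : Γ(W.left, ⊤)ˣ)

theorem gval_map {W' W : X.Etale} (m : W' ⟶ W) (t : (EtCoh.Gm X).obj.obj (op W)) :
    gval ((EtCoh.Gm X).obj.map m.op t) = m.left.appTop (gval t) := rfl

theorem gval_add {W : X.Etale} (s t : (EtCoh.Gm X).obj.obj (op W)) : gval (s + t) = gval s * gval t := rfl

theorem gval_nsmul {W : X.Etale} (n : ℕ) (t : (EtCoh.Gm X).obj.obj (op W)) : gval (n • t) = gval t ^ n :=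
  Units.val_pow_eq_pow_val _ _

theorem isUnit_gval {W : X.Etale} (t : (EtCoh.Gm X).obj.obj (op W)) : IsUnit (gval t) := Units.isUnit _

theorem gval_ext {W : X.Etale} (s t : (EtCoh.Gm X).obj.obj (op W)) (h : gval s = gval t) : s = t :=
  ULift.ext _ _ (Additive.toMul.injective (Units.ext h))

theorem exists_gval {W : X.Etale} {a : Γ(W.left, ⊤)} (ha : IsUnit a) :
    ∃ t : (EtCoh.Gm X).obj.obj (op W), gval t = a :=
  ⟨ULift.up (Additive.ofMul ha.unit), ha.unit_spec⟩

theorem powMap_app (n : ℕ) (W : X.Etale) (t : (EtCoh.Gm X).obj.obj (op W)) :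
    ((EtCoh.powMap X n).hom.app (op W)).hom t = n • t :=
  map_nsmul (AddMonoidHom.mk' (fun ψ : EtCoh.Gm X ⟶ EtCoh.Gm X => (ψ.hom.app (op W)).hom t) (fun _ _ => rfl)) n (𝟙 _)

section Integral

variable [IsIntegral X]

theorem generic_mem {U : X.Opens} (hU : (U : Set X).Nonempty) : genericPoint X ∈ U :=
  (genericPoint_specializes hU.some).mem_open U.2 hU.some_mem

/-- the germ at the generic point -/
noncomputable def gerU (U : X.Opens) (hU : genericPoint X ∈ U) : Γ(U.toScheme, ⊤) →+* X.functionField :=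
  (X.presheaf.germ (U.ι ''ᵁ ⊤) (genericPoint X) (by rw [U.ι_image_top]; exact hU)).hom

theorem gerU_map {U' U : X.Opens} (hle : U' ≤ U) (hU' : genericPoint X ∈ U') (a : Γ(U.toScheme, ⊤)) :
    gerU U' hU' ((X.homOfLE hle).appTop a) = gerU U (hle hU') a := by
  rw [Scheme.homOfLE_appTop]
  exact X.presheaf.germ_res_apply _ _ _ _

theorem gerU_injective (U : X.Opens) (hU : genericPoint X ∈ U) : Function.Injective (gerU U hU) :=
  germ_injective_of_isIntegral X _ _

/-- the rational function of a local trivialisation -/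
noncomputable def rat {U : X.Opens} (hU : genericPoint X ∈ U) (t : (EtCoh.Gm X).obj.obj (op (et U))) :
    X.functionField :=
  gerU U hU (gval t)

theorem rat_map {U' U : X.Opens} (hle : U' ≤ U) (hU' : genericPoint X ∈ U')
    (t : (EtCoh.Gm X).obj.obj (op (et U))) :
    rat hU' ((EtCoh.Gm X).obj.map (etMap hle).op t) = rat (hle hU') t := by
  rw [rat, gval_map]
  exact gerU_map hle hU' _

theorem rat_ne_zero {U : X.Opens} (hU : genericPoint X ∈ U) (t : (EtCoh.Gm X).obj.obj (op (et U))) :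
    rat hU t ≠ 0 :=
  ((isUnit_gval t).map (gerU U hU)).ne_zero

theorem exists_stalk_unit {U : X.Opens} {x : X} (hx : x ∈ U) (hU : genericPoint X ∈ U)
    (t : (EtCoh.Gm X).obj.obj (op (et U))) :
    ∃ v : X.presheaf.stalk x, IsUnit v ∧ algebraMap (X.presheaf.stalk x) X.functionField v = rat hU t := by
  refine ⟨X.presheaf.germ (U.ι ''ᵁ ⊤) x (by rw [U.ι_image_top]; exact hx) (gval t), (isUnit_gval t).map _, ?_⟩
  exact X.presheaf.germ_stalkSpecializes_apply _ (genericPoint_specializes x) _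

/-- rational functions that are powers are powers of sections -/
theorem exists_open_pow {U : X.Opens} (hU : genericPoint X ∈ U) (t : (EtCoh.Gm X).obj.obj (op (et U))) {ℓ : ℕ}
    {C : X.functionField} (h : rat hU t = C ^ ℓ) :
    ∃ (W : X.Opens) (hle : W ≤ U) (_ : genericPoint X ∈ W) (s : (EtCoh.Gm X).obj.obj (op (et W))),
      (EtCoh.Gm X).obj.map (etMap hle).op t = ℓ • s := by
  rcases Nat.eq_zero_or_pos ℓ with rfl | hℓ
  · refine ⟨U, le_rfl, hU, 0, gval_ext _ _ (gerU_injective U hU ?_)⟩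
    have := rat_map (le_refl U) hU t
    rw [rat, rat] at this
    rw [this, gval_nsmul, pow_zero, map_one]
    exact h.trans (pow_zero C)
  have hC : C ≠ 0 := fun h0 => rat_ne_zero hU t (by rw [h, h0, zero_pow hℓ.ne'])
  obtain ⟨V, hV, c, hc⟩ := X.presheaf.germ_exist C
  have hb : genericPoint X ∈ X.basicOpen c := (X.mem_basicOpen c _ hV).2 (by rw [hc]; exact isUnit_iff_ne_zero.2 hC)
  refine ⟨U ⊓ X.basicOpen c, inf_le_left, ⟨hU, hb⟩, ?_⟩
  have hle : (U ⊓ X.basicOpen c).ι ''ᵁ ⊤ ≤ V := by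
    rw [Scheme.Opens.ι_image_top]
    exact inf_le_right.trans (X.basicOpen_le c)
  have hu : IsUnit (X.presheaf.map (homOfLE hle).op c) := by
    have hle' : (U ⊓ X.basicOpen c).ι ''ᵁ ⊤ ≤ X.basicOpen c := by
      rw [Scheme.Opens.ι_image_top]
      exact inf_le_right
    have := (RingedSpace.isUnit_res_basicOpen X.toRingedSpace c).map (X.presheaf.map (homOfLE hle').op).hom
    rw [show (homOfLE hle : _ ⟶ V) = homOfLE hle' ≫ homOfLE (X.basicOpen_le c) from rfl, op_comp, Functor.map_comp]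
    exact this
  obtain ⟨s, hs⟩ := exists_gval (W := et (U ⊓ X.basicOpen c)) hu
  refine ⟨s, gval_ext _ _ (gerU_injective (U ⊓ X.basicOpen c) ⟨hU, hb⟩ ?_)⟩
  rw [gval_nsmul, map_pow, hs]
  refine (rat_map (inf_le_left : U ⊓ X.basicOpen c ≤ U) ⟨hU, hb⟩ t).trans (h.trans ?_)
  congr 1
  exact hc.symm.trans (X.presheaf.germ_res_apply _ _ _ _).symm

variable (hN : ∀ x : X, IsIntegrallyClosed (X.presheaf.stalk x))

include hN in
/-- restriction to nonempty opens is injective on classes of degree one -/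
theorem Hpull_injective (U : X.Opens) (hU : (U : Set X).Nonempty) {G : EtCoh.Ab X} {M : Type} [AddCommGroup M]
    (e : G ≅ EtCoh.const X M) [PreservesFiniteLimits (EtCoh.pull U.ι)] :
    Function.Injective (EtCore.Hpull U.ι G 1) := by
  haveI : IsIso ((EtCoh.pullPushAdj U.ι).unit.app G) :=
    (NatTrans.isIso_app_iff_of_iso (EtCoh.pullPushAdj U.ι).unit e).2 (NormalUnit.isIso_unit_open hN U hU M)
  intro a b h
  rw [GabberAff13.Hpull_eq, GabberAff13.Hpull_eq] at h
  exact (postcomp_bijective ((EtCoh.pullPushAdj U.ι).unit.app G) 1).1 (EtTrace.hofPush_one_injective U.ι _ h)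

include hN in
/-- classes of degree one with coefficients `μ` through rational functions -/
theorem exists_ratFun {ℓ : ℕ} (hℓ : IsUnit (ℓ : Γ(X, ⊤))) {M : Type} [AddCommGroup M]
    (e : EtCoh.mu X ℓ ≅ EtCoh.const X M) (c : EtCoh.H X (EtCoh.mu X ℓ) 1) :
    ∃ f : X.functionField, f ≠ 0 ∧
      (∀ x : X, ∃ (v : X.presheaf.stalk x) (C : X.functionField),
        IsUnit v ∧ f = algebraMap (X.presheaf.stalk x) X.functionField v * C ^ ℓ) ∧
      ((∃ C : X.functionField, f = C ^ ℓ) → c = 0) := by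
  haveI hall : ∀ {A B : Scheme.{u}} (f : A ⟶ B), PreservesFiniteLimits (EtCoh.pull f) := fun f =>
    pull_preservesFiniteLimits f
  haveI : Epi (EtCoh.powMap X ℓ) := S0108.result X ℓ hℓ
  let S := ShortComplex.mk (EtCoh.muι X ℓ) (EtCoh.powMap X ℓ) (kernel.condition _)
  have hS : S.ShortExact :=
    { exact := ShortComplex.exact_of_f_is_kernel _ (kernelIsKernel _)
      mono_f := inferInstanceAs (Mono (kernel.ι _))
      epi_g := ‹_› }
  have hloc : ∀ x : X, ∃ (U : X.Opens) (_ : x ∈ U) (ψ : freeOn (et U) ⟶ EtCoh.Gm X),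
      (Ext.mk₀ (toConst (et U))).comp c (zero_add 1) = (Ext.mk₀ ψ).comp hS.extClass (zero_add 1) := by
    intro x
    obtain ⟨U, hx, hU⟩ := S8531.result X (c.comp (Ext.mk₀ (EtCoh.muι X ℓ)) (add_zero 1)) x
    refine ⟨U, hx, ?_⟩
    have h1 : ((Ext.mk₀ (toConst (et U))).comp c (zero_add 1)).comp (Ext.mk₀ S.f) (add_zero 1) = 0 := by
      rw [Ext.comp_assoc _ _ _ (zero_add 1) (add_zero 1) (by simp)]
      apply (ptMap_bijective U.ι (et U) (𝟙 _) (Category.id_comp _) (EtCoh.Gm X) 1).1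
      rw [map_zero]
      exact (ptMap_toConst U.ι (et U) (𝟙 _) (Category.id_comp _) (EtCoh.Gm X) 1 _).trans hU
    obtain ⟨e', he'⟩ := Ext.covariant_sequence_exact₁ _ hS _ h1 (zero_add 1)
    obtain ⟨ψ, rfl⟩ := (Ext.mk₀_bijective _ _).2 e'
    exact ⟨ψ, he'.symm⟩
  choose U hmem ψ hψ using hloc
  have hηU : ∀ x, genericPoint X ∈ U x := fun x => generic_mem ⟨x, hmem x⟩
  let f : X → X.functionField := fun x => rat (hηU x) (freeVal (ψ x))
  have hrestr : ∀ (x : X) (W : X.Opens) (hW : W ≤ U x), (Ext.mk₀ (toConst (et W))).comp c (zero_add 1) =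
      (Ext.mk₀ (freeMap (etMap hW) ≫ ψ x)).comp hS.extClass (zero_add 1) := fun x W hW => by
    rw [← freeMap_toConst (etMap hW), ← Ext.mk₀_comp_mk₀, ← Ext.mk₀_comp_mk₀,
      Ext.comp_assoc_of_second_deg_zero, Ext.comp_assoc_of_second_deg_zero, hψ x]
  have hdiff : ∀ x y, ∃ C : X.functionField, f x = f y * C ^ ℓ := fun x y => by
    let W := U x ⊓ U y
    have hW : genericPoint X ∈ W := ⟨hηU x, hηU y⟩
    let d := freeMap (etMap (inf_le_left : W ≤ U x)) ≫ ψ x - freeMap (etMap (inf_le_right : W ≤ U y)) ≫ ψ y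
    have h0 : (Ext.mk₀ d).comp hS.extClass (zero_add 1) = 0 := by
      have e1 := congrArg (fun z => Ext.comp z hS.extClass (zero_add 1))
        ((Ext.mk₀_add d (freeMap (etMap (inf_le_right : W ≤ U y)) ≫ ψ y)).symm.trans
          (congrArg Ext.mk₀ (sub_add_cancel (freeMap (etMap (inf_le_left : W ≤ U x)) ≫ ψ x) _)))
      simp only [Ext.add_comp] at e1
      rw [← hrestr x W inf_le_left, ← hrestr y W inf_le_right] at e1
      exact add_eq_right.1 e1
    obtain ⟨t', ht'⟩ := Ext.covariant_sequence_exact₃ _ hS (Ext.mk₀ d) (zero_add 1) h0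
    obtain ⟨t, rfl⟩ := (Ext.mk₀_bijective _ _).2 t'
    rw [Ext.mk₀_comp_mk₀] at ht'
    have h2 := congrArg freeVal ((Ext.mk₀_bijective _ _).1 ht')
    rw [freeVal_comp] at h2
    have h3 : (ℓ • freeVal t : (EtCoh.Gm X).obj.obj (op (et W))) + freeVal (freeMap (etMap (inf_le_right : W ≤ U y)) ≫ ψ y) =
        freeVal (freeMap (etMap (inf_le_left : W ≤ U x)) ≫ ψ x) := by
      rw [← powMap_app]
      refine (congrArg (· + _) h2).trans ?_
      show freeVal d + _ = _
      rw [show freeVal d = freeVal (freeMap (etMap (inf_le_left : W ≤ U x)) ≫ ψ x) -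
        freeVal (freeMap (etMap (inf_le_right : W ≤ U y)) ≫ ψ y) from rfl, sub_add_cancel]
    rw [freeVal_freeMap_comp, freeVal_freeMap_comp] at h3
    refine ⟨rat hW (freeVal t), ?_⟩
    show rat _ (freeVal (ψ x)) = rat _ (freeVal (ψ y)) * _
    rw [← rat_map (inf_le_left : W ≤ U x) hW, ← h3, ← rat_map (inf_le_right : W ≤ U y) hW]
    show gerU W hW (gval (W := et W) (_ + _)) = _
    rw [gval_add, gval_nsmul, map_mul, map_pow, mul_comm]
    rfl
  let x₀ := genericPoint X
  refine ⟨f x₀, rat_ne_zero _ _, fun x => ?_, fun ⟨C, hC⟩ => ?_⟩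
  · obtain ⟨C, hC⟩ := hdiff x₀ x
    obtain ⟨v, hv, hv'⟩ := exists_stalk_unit (hmem x) (hηU x) (freeVal (ψ x))
    exact ⟨v, C, hv, by rw [hv', hC]⟩
  · obtain ⟨W, hle, hW, s, hs⟩ := exists_open_pow (hηU x₀) (freeVal (ψ x₀)) hC
    obtain ⟨t, ht⟩ := exists_free_hom (W := et W) (G := EtCoh.Gm X) s
    have h1 : freeMap (etMap hle) ≫ ψ x₀ = t ≫ EtCoh.powMap X ℓ := free_ext (by
      rw [freeVal_freeMap_comp, hs, freeVal_comp, ht, powMap_app])
    have h2 : (Ext.mk₀ (toConst (et W))).comp c (zero_add 1) = 0 := by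
      rw [hrestr x₀ W hle, h1, ← Ext.mk₀_comp_mk₀, Ext.comp_assoc_of_second_deg_zero]
      show (Ext.mk₀ t).comp ((Ext.mk₀ S.g).comp hS.extClass _) _ = 0
      rw [hS.comp_extClass, Ext.comp_zero]
    refine Hpull_injective hN W ⟨_, hW⟩ e ?_
    rw [map_zero, ← ptMap_toConst W.ι (et W) (𝟙 _) (Category.id_comp _), h2, map_zero]

end Integral

end Groth.Agent.SmAcyc.Kummer
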