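import Groth.Agent.SmAcyc.Core.Setup
import Groth.Agent.Hensel.HenselizationNormal
import Mathlib.RingTheory.Polynomial.IsIntegral

/-!
# Strictly local lines over normal domains are normal domains
-/

set_option autoImplicit false
set_option linter.style.haveILetI false

universe u

namespace Groth.Agent.SmAcyc

open IsLocalRing Polynomial

variable {A S : Type u} [CommRing A] [IsLocalRing A] [CommRing S] [IsLocalRing S] [Algebra A[X] S]

/-- normality -/
theorem IsShLine.isDomain_isIntegrallyClosed (h : IsShLine A S) [IsDomain A] [IsIntegrallyClosed A] :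
    IsDomain S ∧ IsIntegrallyClosed S := by
  obtain ⟨a, _, -, hS, -⟩ := h.exists_local
  let q := orig A
  let O := Localization.AtPrime q
  letI : Algebra O S := a.toAlgebra
  haveI : IsLocalHom (algebraMap O S) := ‹IsLocalHom a›
  haveI := hS
  haveI : IsDomain O := IsLocalization.isDomain_localization q.primeCompl_le_nonZeroDivisors
  haveI : IsIntegrallyClosed O :=
    isIntegrallyClosed_of_isLocalization _ q.primeCompl q.primeCompl_le_nonZeroDivisors
  exact (Hensel.IsHenzLike.normal_iff (Hensel.isHenzLike_of_isStrictHenselization O S)).1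
    ⟨inferInstance, inferInstance⟩

/-- the base embeds -/
theorem IsShLine.injective_base (h : IsShLine A S) {B : Type u} [CommRing B] [HenselianLocalRing B]
    [IsSepClosed (ResidueField B)] (i : A →+* B) [IsLocalHom i] (hi : Function.Injective i) :
    Function.Injective ((algebraMap A[X] S).comp C) := by
  obtain ⟨θ, -, hθ⟩ := h.exists_lift B ((evalRingHom (0 : B)).comp (mapRingHom i)) (by
    ext p
    rw [Ideal.mem_comap, Ideal.mem_comap, RingHom.comp_apply, coe_evalRingHom, coe_mapRingHom, coe_evalRingHom,
      ← i.map_zero, eval_map_apply, ← Ideal.mem_comap,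
      show (maximalIdeal B).comap i = maximalIdeal A from ((IsLocalRing.local_hom_TFAE i).out 0 4).1 ‹IsLocalHom i›])
  intro a b e
  refine hi ?_
  have e2 := congrArg θ e
  have hc : ∀ c : A, θ (algebraMap A[X] S (C c)) = i c := fun c => by
    rw [show θ (algebraMap A[X] S (C c)) = evalRingHom (0 : B) (mapRingHom i (C c)) from congr($hθ (C c)),
      coe_mapRingHom, map_C, coe_evalRingHom, eval_C]
  rwa [RingHom.comp_apply, RingHom.comp_apply, hc, hc] at e2

end Groth.Agent.SmAcyc
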