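import Groth.Agent.SmAcyc.Core.KeyLemma
import Groth.Agent.SmAcyc.Core.Kummer
import Groth.Agent.SmAcyc.Core.Normal
import Mathlib.AlgebraicGeometry.FunctionField
import Mathlib.FieldTheory.IsAlgClosed.Basic
import Mathlib.RingTheory.Polynomial.Cyclotomic.Roots

/-!
# Degree zero and one on the generic fibre of a strictly local line
-/

set_option autoImplicit false
set_option linter.style.haveILetI false
set_option backward.isDefEq.respectTransparency false
set_option backward.isDefEq.respectTransparency.types false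
set_option maxHeartbeats 1000000

universe u

open CategoryTheory CategoryTheory.Limits AlgebraicGeometry CategoryTheory.Abelian

namespace Groth.Agent.SmAcyc

open IsLocalRing

/-- roots in an integrally closed domain with algebraically closed fraction field -/
theorem exists_root_of_isAlgClosed {A : Type u} [CommRing A] [IsDomain A] [IsIntegrallyClosed A]
    (K : Type u) [Field K] [IsAlgClosed K] [Algebra A K] [IsFractionRing A K] {ℓ : ℕ} (hℓ : 0 < ℓ) (x : A) :
    ∃ s, s ^ ℓ = x := by
  obtain ⟨z, hz⟩ := IsAlgClosed.exists_pow_nat_eq (algebraMap A K x) hℓ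
  obtain ⟨s, rfl⟩ := IsIntegrallyClosed.exists_algebraMap_eq_of_isIntegral_pow (R := A) (K := K) (x := z) hℓ
    (hz ▸ isIntegral_algebraMap)
  exact ⟨s, IsFractionRing.injective A K (by rw [map_pow, hz])⟩

variable {A S : Type u} [CommRing A] [HenselianLocalRing A] [IsSepClosed (ResidueField A)] [IsDomain A]
  [IsIntegrallyClosed A] [CommRing S] [IsLocalRing S] [Algebra (Polynomial A) S]

/-- the constants of a strictly local line -/
noncomputable abbrev baseHom (A S : Type u) [CommRing A] [CommRing S] [Algebra (Polynomial A) S] : A →+* S :=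
  (algebraMap (Polynomial A) S).comp Polynomial.C

theorem IsShLine.baseHom_injective (h : IsShLine A S) : Function.Injective (baseHom A S) :=
  h.injective_base (RingHom.id A) Function.injective_id

/-- the generic fibre -/
theorem IsShLine.fibre_normal (h : IsShLine A S) (F : Type u) [CommRing F] [Algebra S F]
    [IsLocalization ((nonZeroDivisors A).map (baseHom A S).toMonoidHom) F] :
    IsDomain F ∧ IsIntegrallyClosed F ∧ Function.Injective (algebraMap S F) := by
  obtain ⟨hd, hic⟩ := h.isDomain_isIntegrallyClosed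
  have hle : (nonZeroDivisors A).map (baseHom A S).toMonoidHom ≤ nonZeroDivisors S := fun x hx => by
    obtain ⟨a, ha, rfl⟩ := hx
    exact mem_nonZeroDivisors_of_ne_zero fun h0 =>
      nonZeroDivisors.ne_zero ha (h.baseHom_injective (h0.trans (map_zero _).symm))
  exact ⟨IsLocalization.isDomain_of_le_nonZeroDivisors (R := S) F hle, isIntegrallyClosed_of_isLocalization F _ hle,
    IsLocalization.injective F hle⟩

/-- the generic fibre is connected -/
theorem IsShLine.fibre_connected (h : IsShLine A S) (F : CommRingCat.{u}) [Algebra S F]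
    [IsLocalization ((nonZeroDivisors A).map (baseHom A S).toMonoidHom) F] :
    Nonempty (Spec F) ∧ ConnectedSpace (Spec F) := by
  obtain ⟨hd, -, -⟩ := h.fibre_normal F
  haveI := hd
  haveI : IsIntegral (Spec F) := inferInstance
  exact ⟨inferInstance, inferInstance⟩

/-- a rational function on the generic fibre that is a power up to units everywhere is a power -/
theorem IsShLine.exists_pow_of_local (h : IsShLine A S) {ℓ : ℕ} (hℓ : IsUnit (ℓ : A))
    (hroot : ∀ x : A, ∃ s, s ^ ℓ = x) (F : Type u) [CommRing F] [Algebra S F]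
    [IsLocalization ((nonZeroDivisors A).map (baseHom A S).toMonoidHom) F]
    (L : Type u) [Field L] [Algebra F L] [IsFractionRing F L] (f : L) (hf0 : f ≠ 0)
    (H : ∀ P : Ideal F, P.IsPrime → ∃ (p q : F) (C : L), p ∉ P ∧ q ∉ P ∧
      f * algebraMap F L q = algebraMap F L p * C ^ ℓ) :
    ∃ C : L, f = C ^ ℓ := by
  obtain ⟨hd, -, hinj⟩ := h.fibre_normal F
  haveI := hd
  haveI := h.isDomain_isIntegrallyClosed.1
  have hℓ0 : ℓ ≠ 0 := fun e => by simp [e] at hℓ
  let j : S →+* L := (algebraMap F L).comp (algebraMap S F)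
  have hj : Function.Injective j := (IsFractionRing.injective F L).comp hinj
  let M := (nonZeroDivisors A).map (baseHom A S).toMonoidHom
  have hu : ∀ s : M, j s ≠ 0 := fun s => ((IsLocalization.map_units F s).map (algebraMap F L)).ne_zero
  have hsurj : ∀ y : F, ∃ (y' : S) (s : M), algebraMap F L y * j s = j y' := fun y => by
    obtain ⟨⟨y', s⟩, hy⟩ := IsLocalization.surj M y
    exact ⟨y', s, by rw [RingHom.comp_apply, RingHom.comp_apply, ← map_mul, hy]⟩
  have hfrac : ∀ C : L, ∃ c d : S, j d ≠ 0 ∧ C * j d = j c := fun C => by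
    obtain ⟨c, d, hd, rfl⟩ := IsFractionRing.div_surjective F C
    have hd' : algebraMap F L d ≠ 0 := fun h0 =>
      nonZeroDivisors.ne_zero hd (IsFractionRing.injective F L (h0.trans (map_zero _).symm))
    obtain ⟨c', s, hc⟩ := hsurj c
    obtain ⟨d', t, hd''⟩ := hsurj d
    refine ⟨c' * t, d' * s, ?_, ?_⟩
    · rw [map_mul, ← hd'']
      exact mul_ne_zero (mul_ne_zero hd' (hu t)) (hu s)
    · rw [map_mul, map_mul, ← hd'', ← hc, div_mul_eq_mul_div, div_eq_iff hd']
      ring
  obtain ⟨n, m, hm, hnm⟩ := hfrac f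
  obtain ⟨k, hk⟩ : ∃ k, ℓ = k + 1 := ⟨ℓ - 1, by omega⟩
  let g := n * m ^ k
  have hg : f * j m ^ ℓ = j g := by
    show _ = j (n * m ^ k)
    rw [map_mul, map_pow, ← hnm, hk, pow_succ]
    ring
  obtain ⟨b, c', hb, he⟩ := exists_mul_pow_eq_pow h hℓ hroot g fun P hP hPA => by
    have hd' : Disjoint (M : Set S) P := Set.disjoint_left.2 fun x hx hxP => by
      obtain ⟨a, ha, rfl⟩ := hx
      exact nonZeroDivisors.ne_zero ha (hPA a hxP)
    let P' : Ideal F := P.map (algebraMap S F)
    haveI : P'.IsPrime := IsLocalization.isPrime_of_isPrime_disjoint M F P hP hd'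
    obtain ⟨p, q, C, hp, hq, hfe⟩ := H P' inferInstance
    have hlift : ∀ y : F, y ∉ P' → ∃ (y' : S) (s : M), y' ∉ P ∧ (s : S) ∉ P ∧
        algebraMap F L y * j s = j y' := fun y hy => by
      obtain ⟨⟨y', s⟩, e⟩ := IsLocalization.surj M y
      refine ⟨y', s, fun hy' => hy ?_, fun h' => Set.disjoint_left.1 hd' s.2 h', by
        rw [RingHom.comp_apply, RingHom.comp_apply, ← map_mul, e]⟩
      have h1 : algebraMap S F y' ∈ P' := Ideal.mem_map_of_mem _ hy'
      rw [← e] at h1
      exact (Ideal.mul_unit_mem_iff_mem P' (IsLocalization.map_units F s)).1 h1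
    obtain ⟨α, s, hα, hs, hp'⟩ := hlift p hp
    obtain ⟨β, t, hβ, ht, hq'⟩ := hlift q hq
    obtain ⟨c, d, hd0, hC⟩ := hfrac C
    refine ⟨α * t * (β * s) ^ k, d * β * s, m * c, ?_, ?_, hj ?_⟩
    · exact fun h' => (hP.mem_or_mem h').elim (fun h1 => (hP.mem_or_mem h1).elim hα ht)
        fun h1 => (hP.mem_or_mem (hP.mem_of_pow_mem _ h1)).elim hβ hs
    · exact mul_ne_zero (mul_ne_zero (fun h0 => hd0 (by rw [h0, map_zero])) fun h0 => hβ (h0 ▸ P.zero_mem))
        fun h0 => hs (h0 ▸ P.zero_mem)
    · simp only [map_mul, map_pow, ← hg, ← hp', ← hq', ← hC, hk, pow_succ] at hfe ⊢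
      linear_combination (j m ^ k * j m * j t * (j d) ^ k * j d * j s * (algebraMap F L q * j t * j s) ^ k) * hfe
  refine ⟨j c' / (j b * j m), ?_⟩
  have hb' : j b ≠ 0 := fun h0 => hb (hj (h0.trans (map_zero _).symm))
  rw [div_pow, eq_div_iff (pow_ne_zero _ (mul_ne_zero hb' hm)), ← map_pow, ← he, map_mul, ← hg, map_pow, mul_pow]
  ring

/-- the stalks of an affine integral scheme -/
theorem stalk_data (R : CommRingCat.{u}) [IsDomain R] (x : Spec R) :
    (IsIntegrallyClosed R → IsIntegrallyClosed ((Spec R).presheaf.stalk x)) ∧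
      ∀ v : (Spec R).presheaf.stalk x, IsUnit v → ∃ p q : R, p ∉ x.asIdeal ∧ q ∉ x.asIdeal ∧
        algebraMap ((Spec R).presheaf.stalk x) (Spec R).functionField v * algebraMap R (Spec R).functionField q =
          algebraMap R (Spec R).functionField p := by
  letI : Algebra R ((Spec R).presheaf.stalk x) := StructureSheaf.stalkAlgebra R x
  haveI : IsLocalization.AtPrime ((Spec R).presheaf.stalk x) x.asIdeal := StructureSheaf.IsLocalization.to_stalk R x
  refine ⟨fun _ => isIntegrallyClosed_of_isLocalization _ x.asIdeal.primeCompl x.asIdeal.primeCompl_le_nonZeroDivisors,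
    fun v hv => ?_⟩
  obtain ⟨p, q, rfl⟩ := IsLocalization.exists_mk'_eq x.asIdeal.primeCompl v
  refine ⟨p, q, (IsLocalization.AtPrime.isUnit_mk'_iff _ x.asIdeal p q).1 hv, q.2, ?_⟩
  have key : ∀ r : R, algebraMap ((Spec R).presheaf.stalk x) (Spec R).functionField (algebraMap R _ r) =
      algebraMap R (Spec R).functionField r := fun r =>
    ConcreteCategory.congr_hom
      (StructureSheaf.toStalk_stalkSpecializes (R := R) (genericPoint_specializes x)) r
  rw [← key, ← map_mul, IsLocalization.mk'_spec, key]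

/-- the generic fibre has no classes of degree one -/
theorem IsShLine.subsingleton_H1 (h : IsShLine A S) {ℓ : ℕ} (hℓp : ℓ.Prime) (hℓ : IsUnit (ℓ : A))
    (K : Type u) [Field K] [IsAlgClosed K] [Algebra A K] [IsFractionRing A K]
    (F : CommRingCat.{u}) [Algebra S F]
    [IsLocalization ((nonZeroDivisors A).map (baseHom A S).toMonoidHom) F] :
    Subsingleton (EtCoh.H (Spec F) (EtCoh.const (Spec F) (ZMod ℓ)) 1) := by
  obtain ⟨hd, hic, hinj⟩ := h.fibre_normal F
  haveI := hd
  haveI := hic
  haveI := h.isDomain_isIntegrallyClosed.1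
  haveI : NeZero ℓ := ⟨hℓp.ne_zero⟩
  let X := Spec F
  have hroot := exists_root_of_isAlgClosed (A := A) K hℓp.pos
  have hN : ∀ x : X, IsIntegrallyClosed (X.presheaf.stalk x) := fun x => (stalk_data F x).1 hic
  let φ : A →+* Γ(X, ⊤) := (Scheme.ΓSpecIso F).inv.hom.comp ((algebraMap S F).comp (baseHom A S))
  have hu : IsUnit (ℓ : Γ(X, ⊤)) := map_natCast φ ℓ ▸ hℓ.map φ
  obtain ⟨ζ₀, hζ₀⟩ : ∃ ζ : A, Polynomial.aeval ζ (Polynomial.cyclotomic ℓ ℤ) = 0 := by
    haveI : NeZero (ℓ : K) := ⟨fun h0 => by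
      have := (hℓ.map (algebraMap A K)).ne_zero
      rw [map_natCast] at this
      exact this h0⟩
    obtain ⟨z, hz⟩ := IsAlgClosed.exists_root (Polynomial.cyclotomic ℓ K)
      (Polynomial.degree_cyclotomic_pos ℓ K hℓp.pos).ne'
    obtain ⟨s, rfl⟩ := IsIntegrallyClosed.exists_algebraMap_eq_of_isIntegral_pow (R := A) (K := K) (x := z) hℓp.pos
      (by rw [(Polynomial.isRoot_cyclotomic_iff.1 hz).pow_eq_one]; exact isIntegral_one)
    refine ⟨s, IsFractionRing.injective A K ?_⟩
    rw [map_zero, ← Polynomial.aeval_algebraMap_apply, Polynomial.aeval_def, ← Polynomial.eval_map,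
      Polynomial.map_cyclotomic]
    exact hz
  obtain ⟨e⟩ := EtLC12.MuConst.nonempty_mu_iso_const (X := X) hu (φ ζ₀) (by
    rw [show Polynomial.aeval (φ ζ₀) (Polynomial.cyclotomic ℓ ℤ) = φ (Polynomial.aeval ζ₀ _) from
      Polynomial.aeval_algHom_apply φ.toIntAlgHom ζ₀ _, hζ₀, map_zero])
  refine subsingleton_of_forall_eq 0 fun c => ?_
  suffices hc : c.comp (Ext.mk₀ e.inv) (add_zero 1) = 0 by
    refine (EtFound.postcomp_bijective e.inv 1).1 ?_
    exact hc.trans (Ext.zero_comp _ _ _ _ _).symm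
  obtain ⟨f, hf0, hloc, hzero⟩ := Kummer.exists_ratFun hN hu e (c.comp (Ext.mk₀ e.inv) (add_zero 1))
  refine hzero (h.exists_pow_of_local hℓ hroot F X.functionField f hf0 fun P hP => ?_)
  let x : X := ⟨P, hP⟩
  obtain ⟨v, C, hv, hfv⟩ := hloc x
  obtain ⟨p, q, hp, hq, hpq⟩ := (stalk_data F x).2 v hv
  exact ⟨p, q, C, hp, hq, by rw [hfv, ← hpq]; ring⟩

end Groth.Agent.SmAcyc
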