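import Groth.Agent.SmAcyc.Core.Approx
import Groth.Agent.SmAcyc.Core.Descent
import Mathlib.RingTheory.DedekindDomain.Dvr

/-!
# Locally trivial Kummer classes over strictly local lines are trivial
-/

set_option autoImplicit false
set_option linter.style.haveILetI false
set_option backward.isDefEq.respectTransparency.types false

universe u

namespace Groth.Agent.SmAcyc

open IsLocalRing PowerSeries

/-- maps to power series are determined by the polynomials and the constant coefficient -/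
theorem powerSeries_hom_ext {P S T : Type u} [CommRing P] [CommRing S] [CommRing T] [Algebra P S]
    [Algebra.FormallyUnramified P S] (f g : S →+* T⟦X⟧) (h : f.comp (algebraMap P S) = g.comp (algebraMap P S))
    (h0 : ∀ y, constantCoeff (f y) = constantCoeff (g y)) : f = g := by
  letI : Algebra P T⟦X⟧ := (f.comp (algebraMap P S)).toAlgebra
  let I : Ideal T⟦X⟧ := Ideal.span {X}
  refine RingHom.ext fun y => PowerSeries.ext fun n => ?_
  let f' : S →ₐ[P] T⟦X⟧ ⧸ I ^ (n + 1) :=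
    { (Ideal.Quotient.mk (I ^ (n + 1))).comp f with commutes' := fun _ => rfl }
  let g' : S →ₐ[P] T⟦X⟧ ⧸ I ^ (n + 1) :=
    { (Ideal.Quotient.mk (I ^ (n + 1))).comp g with
      commutes' := fun p => congrArg (Ideal.Quotient.mk (I ^ (n + 1))) congr($h p).symm }
  have e : f' = g' := by
    refine Algebra.FormallyUnramified.ext' (Ideal.Quotient.factor (Ideal.pow_le_self (I := I) (Nat.succ_ne_zero n)))
      ?_ _ _ fun z => ?_
    · rw [Ideal.Quotient.factor_ker]
      exact ⟨n + 1, by rw [← Ideal.map_pow, Ideal.zero_eq_bot, Ideal.map_quotient_self]⟩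
    · show Ideal.Quotient.factor (Ideal.pow_le_self (I := I) (Nat.succ_ne_zero n)) (Ideal.Quotient.mk _ (f z)) =
        Ideal.Quotient.factor (Ideal.pow_le_self (I := I) (Nat.succ_ne_zero n)) (Ideal.Quotient.mk _ (g z))
      rw [Ideal.Quotient.factor_mk, Ideal.Quotient.factor_mk, Ideal.Quotient.eq, Ideal.mem_span_singleton, X_dvd_iff,
        map_sub, h0, sub_self]
  have h1 : f y - g y ∈ I ^ (n + 1) := Ideal.Quotient.eq.1 congr($e y)
  rw [Ideal.span_singleton_pow, Ideal.mem_span_singleton, X_pow_dvd_iff] at h1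
  have h2 := h1 n (Nat.lt_succ_self n)
  rwa [map_sub, sub_eq_zero] at h2

/-- localisations of a normal domain at primes of height one are discrete valuation rings -/
theorem isDiscreteValuationRing_of_height_one {R : Type u} [CommRing R] [IsDomain R] [IsNoetherianRing R]
    [IsIntegrallyClosed R] (p : Ideal R) [p.IsPrime] (hp : p.height = 1) :
    IsDiscreteValuationRing (Localization.AtPrime p) := by
  let D := Localization.AtPrime p
  have hd : ringKrullDim D = 1 := by
    rw [IsLocalization.AtPrime.ringKrullDim_eq_height p D, hp]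
    rfl
  have hnf : ¬IsField D := fun hf => by
    rw [ringKrullDim_eq_zero_of_isField hf] at hd
    exact zero_ne_one hd
  haveI : Ring.KrullDimLE 1 D := Ring.krullDimLE_iff.2 hd.le
  haveI : IsNoetherianRing D := IsLocalization.isNoetherianRing p.primeCompl D inferInstance
  haveI : IsIntegrallyClosed D :=
    isIntegrallyClosed_of_isLocalization _ p.primeCompl p.primeCompl_le_nonZeroDivisors
  refine ((IsDiscreteValuationRing.TFAE D hnf).out 0 3 :
    IsDiscreteValuationRing D ↔ IsIntegrallyClosed D ∧ ∃! P : Ideal D, P ≠ ⊥ ∧ P.IsPrime).2 ⟨inferInstance, maximalIdeal D,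
    ⟨fun h => hnf (isField_iff_maximalIdeal_eq.2 h), inferInstance⟩, fun P hP =>
      haveI := hP.2
      IsLocalRing.eq_maximalIdeal (Ideal.isMaximal_of_isPrime_of_ne_bot P hP.1)⟩

variable {A S : Type u} [CommRing A] [HenselianLocalRing A] [IsSepClosed (ResidueField A)] [IsDomain A]
  [IsIntegrallyClosed A] [CommRing S] [IsLocalRing S] [IsDomain S] [Algebra (Polynomial A) S]

/-- the case of an element not vanishing on the section -/
theorem exists_root_of_local (h : IsShLine A S) {ℓ : ℕ} (hℓ : IsUnit (ℓ : A)) (σ : S →+* A) [IsLocalHom σ]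
    (hσ : σ.comp (algebraMap (Polynomial A) S) = Polynomial.evalRingHom 0) {g : S} {s : A} (hs : s ≠ 0)
    (hg : σ g = s ^ ℓ)
    (H : ∀ P : Ideal S, P.IsPrime → (∀ a : A, algebraMap (Polynomial A) S (Polynomial.C a) ∈ P → a = 0) →
      ∃ v b c : S, v ∉ P ∧ b ≠ 0 ∧ g * b ^ ℓ = v * c ^ ℓ) :
    ∃ r : S, r ^ ℓ = g := by
  classical
  have hℓ0 : ℓ ≠ 0 := fun e => by simp [e] at hℓ
  let σl : S →+* A := σ
  have hg0 : g ≠ 0 := fun e => hs (pow_eq_zero_iff hℓ0 |>.1 (by rw [← hg, e, map_zero]))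
  let j : A →+* S := (algebraMap (Polynomial A) S).comp Polynomial.C
  have hσj : ∀ a, σ (j a) = a := fun a => (congr($hσ (Polynomial.C a))).trans Polynomial.eval_C
  have hj : Function.Injective j := fun a b e => by rw [← hσj a, ← hσj b, e]
  let V : Set S := {v | ∃ b c : S, b ≠ 0 ∧ g * b ^ ℓ = v * c ^ ℓ}
  obtain ⟨a, ha, ha0⟩ : ∃ a : A, j a ∈ Ideal.span V ∧ a ≠ 0 := by
    by_contra! hc
    let M : Submonoid S := (nonZeroDivisors A).map j.toMonoidHom
    have hd : Disjoint (Ideal.span V : Set S) M := Set.disjoint_left.2 fun x hx hxM => by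
      obtain ⟨a, ha, rfl⟩ := hxM
      exact nonZeroDivisors.ne_zero ha (hc a hx)
    obtain ⟨P, hP, hle, hPd⟩ := Ideal.exists_le_prime_disjoint _ M hd
    obtain ⟨v, b, c, hv, hb, he⟩ := H P hP fun a ha => by
      by_contra hn
      exact Set.disjoint_left.1 hPd ha ⟨a, mem_nonZeroDivisors_of_ne_zero hn, rfl⟩
    exact hv (hle (Ideal.subset_span ⟨b, c, hb, he⟩))
  obtain ⟨T, hT, haT⟩ := Submodule.mem_span_finite_of_mem_span ha
  obtain ⟨r, hr⟩ : ∃ r : S → S, ∑ v ∈ T, r v * v = j a := by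
    obtain ⟨r, -, hr⟩ := Submodule.mem_span_finset.1 haT
    exact ⟨r, by simpa [smul_eq_mul] using hr⟩
  choose B C hB hBC using fun v (hv : v ∈ V) => hv
  let B' : S → S := fun v => if hv : v ∈ V then B v hv else 1
  let C' : S → S := fun v => if hv : v ∈ V then C v hv else 1
  have hV : ∀ v ∈ T, B' v ≠ 0 ∧ g * B' v ^ ℓ = v * C' v ^ ℓ := fun v hv => by
    simp only [B', C', dif_pos (hT hv)]
    exact ⟨hB _ _, hBC _ _⟩
  obtain ⟨R, _, _, _, _, _, _, ι, hιl, S₀, _, _, _, θ, hθl, hι, hG, hS₀, _, hGS, hθ, hF⟩ :=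
    exists_descent h {s, a} ({g} ∪ T ∪ T.image r ∪ T.image B' ∪ T.image C')
  obtain ⟨s₀, hs₀⟩ := hG s (by simp)
  obtain ⟨a₀, ha₀⟩ := hG a (by simp)
  haveI := h.formallyEtale
  haveI := hS₀.formallyEtale
  haveI := hS₀.henselian
  haveI := hS₀.sepClosed
  haveI := h.henselian
  obtain ⟨σ₀, hσ₀l, hσ₀⟩ := hS₀.exists_section
  have hσσ : σ.comp θ = ι.comp σ₀ := by
    haveI := RingHom.isLocalHom_comp σ θ
    haveI := RingHom.isLocalHom_comp ι σ₀
    refine hS₀.hom_ext _ _ (RingHom.ext fun p => ?_)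
    show σ (θ (algebraMap _ S₀ p)) = ι (σ₀ (algebraMap _ S₀ p))
    rw [show θ (algebraMap _ S₀ p) = algebraMap _ S (p.map ι) from congr($hθ p),
      show σ (algebraMap _ S (p.map ι)) = (p.map ι).eval 0 from congr($hσ _),
      show σ₀ (algebraMap _ S₀ p) = p.eval 0 from congr($hσ₀ p), ← ι.map_zero, Polynomial.eval_map_apply]
  obtain ⟨Φ, hΦ, hΦ0⟩ := exists_toPowerSeries σ hσ
  obtain ⟨Φ₀, hΦ₀i, hΦ₀p, hΦ₀0, hroot⟩ := exists_root hGS σ₀ hσ₀
  have hnat : Φ.comp θ = (PowerSeries.map ι).comp Φ₀ := by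
    refine powerSeries_hom_ext (P := Polynomial R) _ _ (RingHom.ext fun p => ?_) fun y => ?_
    · show Φ (θ (algebraMap _ S₀ p)) = PowerSeries.map ι (Φ₀ (algebraMap _ S₀ p))
      rw [show θ (algebraMap _ S₀ p) = algebraMap _ S (p.map ι) from congr($hθ p), hΦ₀p,
        show Φ (algebraMap _ S (p.map ι)) = ((p.map ι : Polynomial A) : A⟦X⟧) from congr($hΦ _),
        Polynomial.polynomial_map_coe]
    · show constantCoeff (Φ (θ y)) = constantCoeff (PowerSeries.map ι (Φ₀ y))
      rw [hΦ0, ← coeff_zero_eq_constantCoeff_apply, coeff_map, coeff_zero_eq_constantCoeff_apply, hΦ₀0]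
      exact congr($hσσ y)
  have hinj : Function.Injective (PowerSeries.map ι) := fun x y e => PowerSeries.ext fun n => hι (by
    rw [← coeff_map, ← coeff_map, e])
  choose q hq using hF
  let e : S → R⟦X⟧ := fun x => if hx : x ∈ ({g} ∪ T ∪ T.image r ∪ T.image B' ∪ T.image C') then Φ₀ (q x hx) else 0
  have he : ∀ x ∈ ({g} ∪ T ∪ T.image r ∪ T.image B' ∪ T.image C'), PowerSeries.map ι (e x) = Φ x := fun x hx => by
    simp only [e, dif_pos hx]
    rw [← congrArg Φ (hq x hx)]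
    exact (congr($hnat (q x hx))).symm
  have hm₁ : g ∈ ({g} ∪ T ∪ T.image r ∪ T.image B' ∪ T.image C') := by simp
  have hm₂ : ∀ v ∈ T, v ∈ ({g} ∪ T ∪ T.image r ∪ T.image B' ∪ T.image C') := fun v hv => by simp [hv]
  have hm₃ : ∀ v ∈ T, r v ∈ ({g} ∪ T ∪ T.image r ∪ T.image B' ∪ T.image C') := fun v hv => by
    simp only [Finset.mem_union, Finset.mem_image]
    exact .inl (.inl (.inr ⟨v, hv, rfl⟩))
  have hm₄ : ∀ v ∈ T, B' v ∈ ({g} ∪ T ∪ T.image r ∪ T.image B' ∪ T.image C') := fun v hv => by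
    simp only [Finset.mem_union, Finset.mem_image]
    exact .inl (.inr ⟨v, hv, rfl⟩)
  have hm₅ : ∀ v ∈ T, C' v ∈ ({g} ∪ T ∪ T.image r ∪ T.image B' ∪ T.image C') := fun v hv => by
    simp only [Finset.mem_union, Finset.mem_image]
    exact .inr ⟨v, hv, rfl⟩
  have heq : ∀ v ∈ T, e g * e (B' v) ^ ℓ = e v * e (C' v) ^ ℓ := fun v hv => hinj (by
    rw [map_mul, map_mul, map_pow, map_pow, he _ hm₁, he _ (hm₂ v hv), he _ (hm₄ v hv), he _ (hm₅ v hv), ← map_pow,
      ← map_pow, ← map_mul, ← map_mul, (hV v hv).2])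
  have hsum : ∑ v ∈ T, e (r v) * e v = PowerSeries.C a₀ := hinj (by
    rw [map_sum, PowerSeries.map_C, ha₀, Finset.sum_congr rfl (g := fun v => Φ (r v * v)) fun v hv => by
      rw [map_mul, map_mul, he _ (hm₃ v hv), he _ (hm₂ v hv)], ← map_sum, hr]
    exact (congr($hΦ (Polynomial.C a))).trans (Polynomial.coe_C a))
  have heg : constantCoeff (e g) = s₀ ^ ℓ := hι (by
    rw [map_pow, hs₀, ← hg, ← hΦ0, ← he g hm₁, ← coeff_zero_eq_constantCoeff_apply, ← coeff_zero_eq_constantCoeff_apply,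
      coeff_map])
  have hs₀0 : s₀ ≠ 0 := fun h0 => hs (by rw [← hs₀, h0, map_zero])
  have ha₀0 : a₀ ≠ 0 := fun h0 => ha0 (by rw [← ha₀, h0, map_zero])
  have hℓR : IsUnit (ℓ : R) := hιl.map_nonunit _ (by rwa [map_natCast])
  obtain ⟨ρ, hρ, -⟩ := exists_root_normal hℓR hs₀0 heg fun p _ hp => by
    let D := Localization.AtPrime p
    haveI : IsDiscreteValuationRing D := isDiscreteValuationRing_of_height_one p hp
    obtain ⟨π, hπ⟩ := IsDiscreteValuationRing.exists_irreducible D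
    let μ := PowerSeries.map (algebraMap R D)
    have hμ : Function.Injective μ := fun x y e => PowerSeries.ext fun n =>
      IsLocalization.injective D p.primeCompl_le_nonZeroDivisors (by rw [← coeff_map, ← coeff_map, e])
    refine exists_root_dvr hπ (by rw [← map_natCast (algebraMap R D)]; exact hℓR.map _)
      (fun h0 => hs₀0 (IsLocalization.injective D p.primeCompl_le_nonZeroDivisors (h0.trans (map_zero _).symm)))
      (by rw [← coeff_zero_eq_constantCoeff_apply, coeff_map, coeff_zero_eq_constantCoeff_apply, heg, map_pow])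
      fun w hw hwπ => ?_
    obtain ⟨k, u, hu⟩ := IsDiscreteValuationRing.eq_unit_mul_pow_irreducible
      (fun h0 => ha₀0 (IsLocalization.injective D p.primeCompl_le_nonZeroDivisors (h0.trans (map_zero _).symm))) hπ
    obtain ⟨v, hv, hwv⟩ : ∃ v ∈ T, ¬ w ∣ μ (e v) := by
      by_contra! hc
      have h1 : w ∣ PowerSeries.C (algebraMap R D a₀) := by
        rw [← PowerSeries.map_C, ← hsum, map_sum]
        exact Finset.dvd_sum fun v hv => by rw [map_mul]; exact Dvd.dvd.mul_left (hc v hv) _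
      rw [hu, map_mul, map_pow] at h1
      rcases hw.dvd_or_dvd h1 with h2 | h2
      · exact hw.not_unit (isUnit_of_dvd_unit h2 (u.isUnit.map _))
      · exact hwπ (hw.dvd_of_dvd_pow h2)
    have hb : e (B' v) ≠ 0 := fun h0 => (hV v hv).1 (by
      simp only [e, dif_pos (hm₄ v hv)] at h0
      rw [← hq _ (hm₄ v hv), hΦ₀i (h0.trans (map_zero Φ₀).symm), map_zero])
    have hgne : e g ≠ 0 := fun h0 => pow_ne_zero ℓ hs₀0 (by rw [← heg, h0, map_zero])
    refine ⟨μ (e (B' v)), μ (e (C' v)), μ (e v), (map_ne_zero_iff μ hμ).2 hb, (map_ne_zero_iff μ hμ).2 fun h0 => ?_,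
      hwv, by rw [← map_pow, ← map_pow, ← map_mul, ← map_mul, heq v hv]⟩
    have := heq v hv
    rw [h0, zero_pow hℓ0, mul_zero] at this
    exact mul_ne_zero hgne (pow_ne_zero _ hb) this
  obtain ⟨b, hb⟩ := hroot (q g hm₁) ℓ ρ (hρ.trans (by simp only [e, dif_pos hm₁]))
  exact ⟨θ b, by rw [← map_pow, hb, hq g hm₁]⟩

/-- locally trivial Kummer classes are trivial -/
theorem exists_mul_pow_eq_pow (h : IsShLine A S) {ℓ : ℕ} (hℓ : IsUnit (ℓ : A)) (hroot : ∀ x : A, ∃ s, s ^ ℓ = x)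
    (g : S)
    (H : ∀ P : Ideal S, P.IsPrime → (∀ a : A, algebraMap (Polynomial A) S (Polynomial.C a) ∈ P → a = 0) →
      ∃ v b c : S, v ∉ P ∧ b ≠ 0 ∧ g * b ^ ℓ = v * c ^ ℓ) :
    ∃ b c : S, b ≠ 0 ∧ g * b ^ ℓ = c ^ ℓ := by
  have hℓ0 : ℓ ≠ 0 := fun e => by simp [e] at hℓ
  obtain ⟨σ, hσl, hσ⟩ := h.exists_section
  obtain ⟨v, b, c, hv, hb, he⟩ := H (RingHom.ker σ) (RingHom.ker_isPrime σ) fun a ha => by
    rw [RingHom.mem_ker, show σ (algebraMap _ S (Polynomial.C a)) = a from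
      (congr($hσ (Polynomial.C a))).trans Polynomial.eval_C] at ha
    exact ha
  by_cases hc : c = 0
  · exact ⟨b, 0, hb, by rw [he, hc]; simp [hℓ0]⟩
  obtain ⟨s, hs⟩ := hroot (σ v)
  have hs0 : s ≠ 0 := fun h0 => hv (by rw [RingHom.mem_ker, ← hs, h0, zero_pow hℓ0])
  obtain ⟨r, hr⟩ := exists_root_of_local h hℓ σ hσ hs0 hs.symm fun P hP hPA => by
    obtain ⟨v', b', c', hv', hb', he'⟩ := H P hP hPA
    refine ⟨v', c * b', c' * b, hv', mul_ne_zero hc hb', ?_⟩
    rw [mul_pow, mul_pow, ← mul_assoc v, ← he, ← mul_assoc v', ← he']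
    ring
  exact ⟨b, r * c, hb, by rw [he, mul_pow, hr]⟩

end Groth.Agent.SmAcyc
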