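import Mathlib.RingTheory.PowerSeries.Ideal
import Mathlib.RingTheory.PowerSeries.Inverse
import Mathlib.RingTheory.AdicCompletion.Completeness
import Mathlib.RingTheory.Henselian
import Mathlib.RingTheory.Multiplicity
import Mathlib.RingTheory.DiscreteValuationRing.TFAE
import Mathlib.RingTheory.IntegralClosure.IntegrallyClosed
import Groth.Agent.S14359

/-!
# Roots of power series over normal noetherian domains
-/

set_option autoImplicit false
set_option linter.style.haveILetI false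

universe u

namespace Groth.Agent.SmAcyc

open PowerSeries

/-- roots of series with constant term one -/
theorem exists_root_one {R : Type u} [CommRing R] (ℓ : ℕ) (hu : IsUnit (ℓ : R)) (u : R⟦X⟧)
    (h : constantCoeff u = 1) : ∃ v : R⟦X⟧, v ^ ℓ = u ∧ constantCoeff v = 1 := by
  rcases Nat.eq_zero_or_pos ℓ with rfl | hℓ
  · rw [Nat.cast_zero] at hu
    haveI : Subsingleton R := isUnit_zero_iff.1 hu |> subsingleton_of_zero_eq_one
    exact ⟨1, Subsingleton.elim _ _, Subsingleton.elim _ _⟩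
  let I : Ideal R⟦X⟧ := Ideal.span {X}
  have hu' : IsUnit (ℓ : R⟦X⟧) := by simpa using hu.map (C : R →+* R⟦X⟧)
  obtain ⟨v, hv, hv1⟩ := HenselianRing.is_henselian (R := R⟦X⟧) (I := I) (Polynomial.X ^ ℓ - Polynomial.C u)
    (Polynomial.monic_X_pow_sub_C u hℓ.ne') 1 (by
      rw [Ideal.mem_span_singleton, X_dvd_iff]
      simp [h]) (by
      refine IsUnit.map (Ideal.Quotient.mk I) ?_
      simpa [Polynomial.derivative_X_pow] using hu')
  refine ⟨v, ?_, ?_⟩
  · simpa [Polynomial.IsRoot, sub_eq_zero] using hv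
  · rw [Ideal.mem_span_singleton, X_dvd_iff, map_sub, map_one, sub_eq_zero] at hv1
    exact hv1

/-- roots with the same nonzero constant term agree -/
theorem root_unique {R : Type u} [CommRing R] [IsDomain R] {ℓ : ℕ} (hu : IsUnit (ℓ : R)) {x y : R⟦X⟧}
    (h : x ^ ℓ = y ^ ℓ) (h0 : constantCoeff x = constantCoeff y) (hne : constantCoeff y ≠ 0) : x = y := by
  have hfac : (x - y) * (Finset.range ℓ).sum (fun i => x ^ i * y ^ (ℓ - 1 - i)) = 0 := by
    rw [mul_comm, geom_sum₂_mul, h, sub_self]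
  refine sub_eq_zero.1 ((mul_eq_zero.1 hfac).resolve_right fun h1 => ?_)
  have h2 := congrArg constantCoeff h1
  rw [map_sum, map_zero] at h2
  rcases Nat.eq_zero_or_pos ℓ with rfl | hℓ
  · simp at hu
  rw [Finset.sum_congr rfl (fun i hi => show constantCoeff (x ^ i * y ^ (ℓ - 1 - i)) = constantCoeff y ^ (ℓ - 1) by
    rw [map_mul, map_pow, map_pow, h0, ← pow_add]
    congr 1
    rw [Finset.mem_range] at hi
    omega), Finset.sum_const, Finset.card_range, nsmul_eq_mul] at h2
  exact mul_ne_zero hu.ne_zero (pow_ne_zero _ hne) h2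

/-- elements with multiplicities divisible by `ℓ` away from one prime -/
theorem exists_eq_unit_mul_pow {M : Type u} [CommMonoidWithZero M] [UniqueFactorizationMonoid M]
    (π : M) (ℓ : ℕ) (hℓ : 0 < ℓ) :
    ∀ x : M, x ≠ 0 →
      (∀ w : M, Prime w → ¬ Associated w π → ∃ k, w ^ (ℓ * k) ∣ x ∧ ¬ w ^ (ℓ * k + 1) ∣ x) →
      ∃ (u : Mˣ) (j : ℕ) (d : M), x = u * π ^ j * d ^ ℓ := by
  intro x
  refine (wellFounded_dvdNotUnit (α := M)).induction (C := fun x => x ≠ 0 →
      (∀ w : M, Prime w → ¬ Associated w π → ∃ k, w ^ (ℓ * k) ∣ x ∧ ¬ w ^ (ℓ * k + 1) ∣ x) →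
      ∃ (u : Mˣ) (j : ℕ) (d : M), x = u * π ^ j * d ^ ℓ) x fun x ih hx H => ?_
  focus
    by_cases hux : IsUnit x
    · exact ⟨hux.unit, 0, 1, by simp⟩
    obtain ⟨w, hw, hwx⟩ := WfDvdMonoid.exists_irreducible_factor hux hx
    replace hw : Prime w := UniqueFactorizationMonoid.irreducible_iff_prime.1 hw
    by_cases hwπ : Associated w π
    · obtain ⟨y, rfl⟩ : π ∣ x := hwπ.dvd_iff_dvd_left.1 hwx
      have hy : y ≠ 0 := right_ne_zero_of_mul hx
      have hπ : Prime π := hwπ.prime hw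
      obtain ⟨u, j, d, hyd⟩ := ih y ⟨hy, π, hπ.not_isUnit, mul_comm _ _⟩ hy fun w' hw' hne => by
        obtain ⟨k, h1, h2⟩ := H w' hw' hne
        have hnd : ¬ w' ∣ π := fun h => hne (hw'.associated_of_dvd hπ h)
        exact ⟨k, hw'.pow_dvd_of_dvd_mul_left _ hnd h1, fun h => h2 (h.mul_left π)⟩
      exact ⟨u, j + 1, d, by rw [hyd, pow_succ]; ac_rfl⟩
    · obtain ⟨k, h1, h2⟩ := H w hw hwπ
      have hk : 0 < k := by
        rcases Nat.eq_zero_or_pos k with rfl | h
        · exact absurd (by simpa using hwx) h2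
        · exact h
      obtain ⟨y, rfl⟩ := h1
      have hy : y ≠ 0 := right_ne_zero_of_mul hx
      have hwy : ¬ w ∣ y := fun h => h2 (by rw [pow_succ]; exact mul_dvd_mul_left _ h)
      have hnu : ¬ IsUnit (w ^ (ℓ * k)) := fun h =>
        hw.not_isUnit ((isUnit_pow_iff (Nat.mul_pos hℓ hk).ne').1 h)
      obtain ⟨u, j, d, hyd⟩ := ih y ⟨hy, w ^ (ℓ * k), hnu, mul_comm _ _⟩ hy fun w' hw' hne => by
        by_cases hww : Associated w' w
        · exact ⟨0, by simp, by simpa using fun h => hwy (hww.dvd_iff_dvd_left.1 h)⟩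
        obtain ⟨k', h1', h2'⟩ := H w' hw' hne
        have hnd : ¬ w' ∣ w ^ (ℓ * k) := fun h => hww (hw'.associated_of_dvd hw (hw'.dvd_of_dvd_pow h))
        exact ⟨k', hw'.pow_dvd_of_dvd_mul_left _ hnd h1', fun h => h2' (h.mul_left _)⟩
      refine ⟨u, j, w ^ k * d, ?_⟩
      rw [hyd, mul_pow, ← pow_mul, mul_comm k ℓ]
      simp only [mul_left_comm]

/-- the multiplicities of an element which is locally a unit times a power -/
theorem exists_mult {M : Type u} [CommRing M] [IsDomain M] [UniqueFactorizationMonoid M] {ℓ : ℕ} {w : M}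
    (hw : Prime w) {g b c v : M} (hg : g ≠ 0) (hb : b ≠ 0) (hc : c ≠ 0) (hv : ¬ w ∣ v)
    (h : g * b ^ ℓ = v * c ^ ℓ) : ∃ k, w ^ (ℓ * k) ∣ g ∧ ¬ w ^ (ℓ * k + 1) ∣ g := by
  have hf : ∀ x : M, x ≠ 0 → FiniteMultiplicity w x := fun x hx => FiniteMultiplicity.of_prime_left hw hx
  have hv0 : v ≠ 0 := fun h0 => hv (h0 ▸ dvd_zero w)
  have h1 := congrArg (multiplicity w) h
  rw [multiplicity_mul hw (hf _ (mul_ne_zero hg (pow_ne_zero _ hb))),
    multiplicity_mul hw (hf _ (mul_ne_zero hv0 (pow_ne_zero _ hc))), (hf b hb).multiplicity_pow hw,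
    (hf c hc).multiplicity_pow hw, multiplicity_eq_zero.2 hv, zero_add] at h1
  refine ⟨multiplicity w c - multiplicity w b, ?_⟩
  have h2 : ℓ * (multiplicity w c - multiplicity w b) = multiplicity w g := by
    rw [Nat.mul_sub]
    omega
  rw [h2]
  exact ⟨pow_multiplicity_dvd w g, (hf g hg).not_pow_dvd_of_multiplicity_lt (Nat.lt_succ_self _)⟩

/-- over a discrete valuation ring -/
theorem exists_root_dvr {D : Type u} [CommRing D] [IsDomain D] [IsDiscreteValuationRing D] {π : D}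
    (hπ : Irreducible π) {ℓ : ℕ} (hu : IsUnit (ℓ : D)) {g : D⟦X⟧} {s : D} (hs : s ≠ 0)
    (hg : constantCoeff g = s ^ ℓ)
    (H : ∀ w : D⟦X⟧, Prime w → ¬ w ∣ C π → ∃ b c v, b ≠ 0 ∧ c ≠ 0 ∧ ¬ w ∣ v ∧ g * b ^ ℓ = v * c ^ ℓ) :
    ∃ r : D⟦X⟧, r ^ ℓ = g ∧ constantCoeff r = s := by
  have hℓ : 0 < ℓ := Nat.pos_of_ne_zero fun h => by simp [h] at hu
  have hπ' : Prime π := hπ.prime
  have hg0 : g ≠ 0 := fun h => pow_ne_zero ℓ hs (by rw [← hg, h, map_zero])
  have hCπ : Prime (C π) := by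
    refine (Ideal.span_singleton_prime (fun h => hπ.ne_zero (C_injective (h.trans (map_zero _).symm)))).1 ?_
    haveI : (Ideal.span {π}).IsPrime := (Ideal.span_singleton_prime hπ.ne_zero).2 hπ'
    have e : Ideal.span {(C π : D⟦X⟧)} = RingHom.ker (PowerSeries.map (Ideal.Quotient.mk (Ideal.span {π}))) := by
      ext x
      rw [Ideal.mem_span_singleton, RingHom.mem_ker]
      constructor
      · rintro ⟨y, rfl⟩
        rw [map_mul, map_C, Ideal.Quotient.eq_zero_iff_mem.2 (Ideal.mem_span_singleton_self π), map_zero, zero_mul]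
      · intro h
        have hn : ∀ n, π ∣ coeff n x := fun n => by
          rw [← Ideal.mem_span_singleton, ← Ideal.Quotient.eq_zero_iff_mem, ← coeff_map, h, map_zero]
        choose y hy using hn
        exact ⟨mk y, PowerSeries.ext fun n => by rw [coeff_C_mul, coeff_mk, hy]⟩
    rw [e]
    exact RingHom.ker_isPrime _
  obtain ⟨u, j, d, hd⟩ := exists_eq_unit_mul_pow (C π) ℓ hℓ g hg0 fun w hw hne => by
    obtain ⟨b, c, v, hb, hc, hv, he⟩ := H w hw fun h => hne (hw.associated_of_dvd hCπ h)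
    exact exists_mult hw hg0 hb hc hv he
  have h0 : s ^ ℓ = constantCoeff (u : D⟦X⟧) * π ^ j * constantCoeff d ^ ℓ := by
    rw [← hg, hd, map_mul, map_mul, map_pow, map_pow, constantCoeff_C]
  have hd0 : constantCoeff d ≠ 0 := fun h => pow_ne_zero ℓ hs (by rw [h0, h, zero_pow hℓ.ne', mul_zero])
  have hu0 : IsUnit (constantCoeff (u : D⟦X⟧)) := u.isUnit.map _
  have hf : ∀ x : D, x ≠ 0 → FiniteMultiplicity π x := fun x hx => FiniteMultiplicity.of_prime_left hπ' hx
  obtain ⟨m, rfl⟩ : ℓ ∣ j := by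
    have h1 := congrArg (multiplicity π) h0
    rw [multiplicity_mul hπ' (hf _ (mul_ne_zero (mul_ne_zero hu0.ne_zero (pow_ne_zero _ hπ.ne_zero))
        (pow_ne_zero _ hd0))), multiplicity_mul hπ' (hf _ (mul_ne_zero hu0.ne_zero (pow_ne_zero _ hπ.ne_zero))),
      (hf s hs).multiplicity_pow hπ', (hf _ hd0).multiplicity_pow hπ', multiplicity_pow_self hπ.ne_zero hπ.not_isUnit,
      multiplicity_eq_zero.2 (fun h => hπ.not_isUnit (isUnit_of_dvd_unit h hu0)), zero_add] at h1
    exact ⟨multiplicity π s - multiplicity π (constantCoeff d), by rw [Nat.mul_sub]; omega⟩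
  obtain ⟨e, he⟩ : π ^ m * constantCoeff d ∣ s := (IsIntegrallyClosed.pow_dvd_pow_iff hℓ.ne').1 ⟨constantCoeff (u : D⟦X⟧), by
    rw [h0, mul_pow, ← pow_mul, mul_comm m ℓ]; ring⟩
  have he' : e ^ ℓ = constantCoeff (u : D⟦X⟧) := by
    refine mul_left_cancel₀ (pow_ne_zero ℓ (mul_ne_zero (pow_ne_zero m hπ.ne_zero) hd0)) ?_
    rw [← mul_pow, ← he, h0, mul_pow, ← pow_mul, mul_comm m ℓ]; ring
  have hue : IsUnit e := (isUnit_pow_iff hℓ.ne').1 (he' ▸ hu0)
  obtain ⟨e', he2⟩ := hue.exists_left_inv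
  obtain ⟨v, hv, hv0⟩ := exists_root_one ℓ hu (C (e' ^ ℓ) * (u : D⟦X⟧)) (by
    rw [map_mul, constantCoeff_C, ← he', ← mul_pow, he2, one_pow])
  refine ⟨C (π ^ m * e) * d * v, ?_, ?_⟩
  · rw [mul_pow, mul_pow, hv, hd, ← map_pow, mul_pow, ← pow_mul, mul_comm m ℓ, map_mul]
    simp only [map_pow]
    have hee : (C e' : D⟦X⟧) * C e = 1 := by rw [← map_mul, he2, map_one]
    calc C π ^ (ℓ * m) * C e ^ ℓ * d ^ ℓ * (C e' ^ ℓ * (u : D⟦X⟧))
        = (C e' * C e) ^ ℓ * ((u : D⟦X⟧) * C π ^ (ℓ * m) * d ^ ℓ) := by ring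
      _ = _ := by rw [hee, one_pow, one_mul]
  · rw [map_mul, map_mul, constantCoeff_C, hv0, mul_one, he]
    ring


/-- membership in a normal noetherian domain -/
theorem mem_range_of_height_one {R K : Type u} [CommRing R] [IsDomain R] [IsNoetherianRing R] [IsIntegrallyClosed R]
    [Field K] [Algebra R K] [IsFractionRing R K] (c : K)
    (h : ∀ p : Ideal R, p.IsPrime → p.height = 1 → ∃ t z : R, t ∉ p ∧ algebraMap R K t * c = algebraMap R K z) :
    c ∈ (algebraMap R K).range := by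
  obtain ⟨a, b, hb, rfl⟩ := IsFractionRing.div_surjective R c
  have hb0 : b ≠ 0 := nonZeroDivisors.ne_zero hb
  have hbK : algebraMap R K b ≠ 0 := fun h0 => hb0 (IsFractionRing.injective R K (h0.trans (map_zero _).symm))
  let x : R ⧸ Ideal.span {b} := Ideal.Quotient.mk _ a
  by_cases hx : x = 0
  · obtain ⟨z, hz⟩ := Ideal.mem_span_singleton'.1 (Ideal.Quotient.eq_zero_iff_mem.1 hx)
    exact ⟨z, by rw [← hz, map_mul, mul_div_cancel_right₀ _ hbK]⟩
  obtain ⟨p, hp, hle⟩ := exists_le_isAssociatedPrime_of_isNoetherianRing R x hx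
  haveI := hp.isPrime
  obtain ⟨t, z, ht, htz⟩ := h p inferInstance (S14359.result R b hb0 p hp)
  exfalso
  refine ht (hle ?_)
  rw [Submodule.mem_colon_singleton, Submodule.mem_bot]
  show Ideal.Quotient.mk _ (t * a) = 0
  rw [Ideal.Quotient.eq_zero_iff_mem, Ideal.mem_span_singleton']
  refine ⟨z, IsFractionRing.injective R K ?_⟩
  rw [map_mul, map_mul, ← htz]
  field_simp

/-- over a normal noetherian domain -/
theorem exists_root_normal {R : Type u} [CommRing R] [IsDomain R] [IsNoetherianRing R] [IsIntegrallyClosed R]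
    {ℓ : ℕ} (hu : IsUnit (ℓ : R)) {g : R⟦X⟧} {s : R} (hs : s ≠ 0) (hg : constantCoeff g = s ^ ℓ)
    (H : ∀ (p : Ideal R) [p.IsPrime], p.height = 1 → ∃ r : (Localization.AtPrime p)⟦X⟧,
      r ^ ℓ = PowerSeries.map (algebraMap R (Localization.AtPrime p)) g ∧
        constantCoeff r = algebraMap R (Localization.AtPrime p) s) :
    ∃ r : R⟦X⟧, r ^ ℓ = g ∧ constantCoeff r = s := by
  let K := FractionRing R
  let ι : R →+* K := algebraMap R K
  have huK : IsUnit (ℓ : K) := by simpa using hu.map ι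
  have hsK : ι s ≠ 0 := fun h => hs (IsFractionRing.injective R K (h.trans (map_zero _).symm))
  obtain ⟨v, hv, hv0⟩ := exists_root_one ℓ huK (C ((ι s ^ ℓ)⁻¹) * PowerSeries.map ι g) (by
    rw [map_mul, constantCoeff_C, ← coeff_zero_eq_constantCoeff_apply (PowerSeries.map ι g), coeff_map,
      coeff_zero_eq_constantCoeff_apply, hg, map_pow, inv_mul_cancel₀ (pow_ne_zero _ hsK)])
  let r : K⟦X⟧ := C (ι s) * v
  have hr : r ^ ℓ = PowerSeries.map ι g := by
    show (C (ι s) * v) ^ ℓ = _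
    rw [mul_pow, hv, ← mul_assoc, ← map_pow C, ← map_mul, mul_inv_cancel₀ (pow_ne_zero _ hsK), map_one, one_mul]
  have hr0 : constantCoeff r = ι s := by
    show constantCoeff (C (ι s) * v) = _
    rw [map_mul, constantCoeff_C, hv0, mul_one]
  have hmem : ∀ n, coeff n r ∈ ι.range := fun n => mem_range_of_height_one _ fun p hp hp1 => by
    haveI := hp
    obtain ⟨rp, hrp, hrp0⟩ := H p hp1
    let j : Localization.AtPrime p →+* K := IsLocalization.lift (M := p.primeCompl) (g := ι) fun t =>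
      IsUnit.mk0 _ fun h0 => t.2 (by rw [IsFractionRing.injective R K (h0.trans (map_zero _).symm)]; exact zero_mem p)
    have hj : j.comp (algebraMap R (Localization.AtPrime p)) = ι := IsLocalization.lift_comp _
    have he : PowerSeries.map j rp = r := by
      refine root_unique huK ?_ ?_ ?_
      · rw [← map_pow, hrp, hr]
        exact PowerSeries.ext fun m => by rw [coeff_map, coeff_map, coeff_map]; exact congr($hj _)
      · rw [← coeff_zero_eq_constantCoeff_apply, coeff_map, coeff_zero_eq_constantCoeff_apply, hrp0, hr0]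
        exact congr($hj s)
      · rwa [hr0]
    obtain ⟨z, t, hzt⟩ := IsLocalization.exists_mk'_eq p.primeCompl (coeff n rp)
    refine ⟨t, z, t.2, ?_⟩
    rw [← he, coeff_map, ← hzt]
    show ι t * j _ = ι z
    rw [← hj, RingHom.comp_apply, RingHom.comp_apply, ← map_mul, IsLocalization.mk'_spec']
  choose c hc using hmem
  refine ⟨mk c, ?_, ?_⟩
  · refine PowerSeries.map_injective ι (IsFractionRing.injective R K) ?_
    rw [map_pow, ← hr]
    congr 1
    exact PowerSeries.ext fun n => by rw [coeff_map, coeff_mk]; exact hc n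
  · refine IsFractionRing.injective R K ?_
    rw [← coeff_zero_eq_constantCoeff_apply, coeff_mk]
    exact (hc 0).trans ((coeff_zero_eq_constantCoeff_apply r).trans hr0)

end Groth.Agent.SmAcyc
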