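import Groth.Agent.IndEtStrict.Ring
import Groth.Agent.IndEtLib.Sys
import Groth.Agent.IndEtLib.Localization
import Groth.Agent.IndZarLib.Factor
import Groth.Agent.S0734
import Groth.Agent.S0735
import Groth.Agent.S2046
import Groth.Agent.CplFib6.Excellent
import Groth.Agent.CplFib6.GRingStable
import Groth.Agent.Hensel.HenselizationMisc
import Groth.Agent.Hensel.HenselizationDescent
import Groth.Agent.Hensel.EtaleLift
import Mathlib.FieldTheory.IsSepClosed

/-!
# Strict henselizations of the affine line at the origin of the closed fibre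
-/

set_option autoImplicit false
set_option linter.style.haveILetI false

universe u

namespace Groth.Agent.SmAcyc

open IsLocalRing Polynomial

/-- a polynomial algebra which is strictly local and ind-étale over the origin -/
structure IsShLine (A S : Type u) [CommRing A] [IsLocalRing A] [CommRing S] [IsLocalRing S] [Algebra A[X] S] :
    Prop where
  henselian : HenselianLocalRing S
  sepClosed : IsSepClosed (ResidueField S)
  indEtale : EtPBC.IsIndEtale A[X] S
  origin : (maximalIdeal S).comap (algebraMap A[X] S) = (maximalIdeal A).comap (evalRingHom (0 : A))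

variable {A S : Type u} [CommRing A] [IsLocalRing A] [CommRing S] [IsLocalRing S] [Algebra A[X] S]

/-- the origin of the closed fibre -/
noncomputable abbrev orig (A : Type u) [CommRing A] [IsLocalRing A] : Ideal A[X] := (maximalIdeal A).comap (evalRingHom (0 : A))

/-- the local ring of the origin, and the strict henselization -/
theorem IsShLine.exists_local (h : IsShLine A S) :
    ∃ (a : Localization.AtPrime (orig A) →+* S) (_ : IsLocalHom a),
      (∀ p, a (algebraMap A[X] _ p) = algebraMap A[X] S p) ∧
      (letI := a.toAlgebra; Hensel.IsStrictHenselization (Localization.AtPrime (orig A)) S) ∧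
      Algebra.FormallyEtale A[X] S := by
  let q := orig A
  let O := Localization.AtPrime q
  have hu : ∀ y : q.primeCompl, IsUnit (algebraMap A[X] S y) := fun y => by
    by_contra hc
    exact y.2 ((SetLike.ext_iff.1 h.origin _).1 hc)
  let a : O →+* S := IsLocalization.lift hu
  letI : Algebra O S := a.toAlgebra
  haveI : IsScalarTower A[X] O S := IsScalarTower.of_algebraMap_eq fun p => (IsLocalization.lift_eq hu p).symm
  haveI hl : IsLocalHom a := ⟨fun z hz => by
    obtain ⟨s, t, rfl⟩ := IsLocalization.exists_mk'_eq q.primeCompl z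
    refine (IsLocalization.AtPrime.isUnit_mk'_iff O q s t).2 fun hs => ?_
    have h1 : algebraMap A[X] S s ∈ maximalIdeal S := by
      exact (SetLike.ext_iff.1 h.origin _).2 hs
    have h2 : a (IsLocalization.mk' O s t) * algebraMap A[X] S t = algebraMap A[X] S s := by
      rw [← IsLocalization.lift_eq (S := O) hu t.1, ← IsLocalization.lift_eq (S := O) hu s, ← map_mul,
        IsLocalization.mk'_spec]
    exact h1 (h2 ▸ hz.mul (hu t))⟩
  haveI : IsLocalHom (algebraMap O S) := hl
  have hO : EtPBC.IsIndEtale O S := S0735.result A[X] O S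
    (IndZarLib.isIndEtale_of_isIndZariski (IndEtLib.isIndZariski_localization q.primeCompl O)) h.indEtale
  haveI := h.henselian
  haveI := h.sepClosed
  haveI : Hensel.IsStrictHenselization O S := IndEtStrict.isStrictHenselization_of_isIndEtale O S hO
  haveI : Algebra.FormallyEtale O S := Hensel.formallyEtale_of_isStrictHenselization O S
  haveI : Algebra.FormallyEtale A[X] O := Algebra.FormallyEtale.of_isLocalization q.primeCompl
  exact ⟨a, hl, fun p => IsLocalization.lift_eq hu p, ‹_›, Algebra.FormallyEtale.comp A[X] O S⟩

/-- formally étale -/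
theorem IsShLine.formallyEtale (h : IsShLine A S) : Algebra.FormallyEtale A[X] S := by
  obtain ⟨_, _, _, _, h2⟩ := h.exists_local
  exact h2

/-- maps to strictly henselian rings -/
theorem IsShLine.exists_lift (h : IsShLine A S) (T : Type u) [CommRing T] [HenselianLocalRing T]
    [IsSepClosed (ResidueField T)] (φ : A[X] →+* T) (hφ : (maximalIdeal T).comap φ = orig A) :
    ∃ (θ : S →+* T) (_ : IsLocalHom θ), θ.comp (algebraMap A[X] S) = φ := by
  obtain ⟨a, _, ha, hS, -⟩ := h.exists_local
  let q := orig A
  let O := Localization.AtPrime q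
  have hu : ∀ y : q.primeCompl, IsUnit (φ y) := fun y => by
    by_contra hc
    exact y.2 ((SetLike.ext_iff.1 hφ _).1 hc)
  let f : O →+* T := IsLocalization.lift hu
  haveI : IsLocalHom f := ⟨fun z hz => by
    obtain ⟨s, t, rfl⟩ := IsLocalization.exists_mk'_eq q.primeCompl z
    refine (IsLocalization.AtPrime.isUnit_mk'_iff O q s t).2 fun hs => ?_
    have h2 : f (IsLocalization.mk' O s t) * φ t = φ s := by
      rw [← IsLocalization.lift_eq (S := O) hu t.1, ← IsLocalization.lift_eq (S := O) hu s, ← map_mul,
        IsLocalization.mk'_spec]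
    rw [show q = (maximalIdeal T).comap φ from hφ.symm] at hs
    exact hs (h2 ▸ hz.mul (hu t))⟩
  letI : Algebra O S := a.toAlgebra
  haveI : IsLocalHom (algebraMap O S) := ‹IsLocalHom a›
  haveI := hS
  haveI := hS.isSepClosure.separable
  letI : Algebra (ResidueField O) (ResidueField T) := (ResidueField.map f).toAlgebra
  let τ : ResidueField S →ₐ[ResidueField O] ResidueField T := IsSepClosed.lift
  obtain ⟨θ, ⟨h1, h2⟩, -⟩ := hS.universal T f τ.toRingHom (RingHom.ext τ.commutes)
  refine ⟨θ, ⟨fun z hz => ?_⟩, RingHom.ext fun p => ?_⟩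
  · by_contra hn
    have h0 : residue T (θ z) = 0 := by rw [h2, (residue_eq_zero_iff z).2 hn, map_zero]
    exact ((residue_eq_zero_iff _).1 h0) hz
  · rw [RingHom.comp_apply, ← ha, show θ (a (algebraMap A[X] O p)) = f (algebraMap A[X] O p) from congr($h1 _)]
    exact IsLocalization.lift_eq hu p

/-- the residue field of the origin is that of the base -/
theorem IsShLine.residue_surjective (h : IsShLine A S) [IsSepClosed (ResidueField A)] (z : ResidueField S) :
    ∃ r : A, residue S (algebraMap A[X] S (C r)) = z := by
  obtain ⟨a, _, ha, hS, -⟩ := h.exists_local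
  let q := orig A
  let O := Localization.AtPrime q
  letI : Algebra O S := a.toAlgebra
  haveI : IsLocalHom (algebraMap O S) := ‹IsLocalHom a›
  haveI := hS
  haveI := hS.isSepClosure.separable
  let k := ResidueField A
  let j : A →+* S := (algebraMap A[X] S).comp C
  haveI : IsLocalHom j := ⟨fun r hr => by
    by_contra hn
    have : C r ∈ (maximalIdeal S).comap (algebraMap A[X] S) := by
      rw [h.origin, Ideal.mem_comap, coe_evalRingHom, eval_C]
      exact hn
    exact this hr⟩
  have hmem : ∀ p : A[X], residue S (algebraMap A[X] S p) = residue S (j (p.eval 0)) := fun p => by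
    rw [← sub_eq_zero, ← map_sub, residue_eq_zero_iff, RingHom.comp_apply, ← map_sub, ← Ideal.mem_comap, h.origin,
      Ideal.mem_comap, coe_evalRingHom, eval_sub, eval_C, sub_self]
    exact zero_mem _
  have hsurj : ∀ w : ResidueField O, algebraMap (ResidueField O) (ResidueField S) w ∈ (ResidueField.map j).range := by
    intro w
    obtain ⟨w, rfl⟩ := IsLocalRing.residue_surjective w
    obtain ⟨s, t, rfl⟩ := IsLocalization.exists_mk'_eq q.primeCompl w
    show residue S (a (IsLocalization.mk' O s t)) ∈ _
    have h2 : residue S (a (IsLocalization.mk' O s t)) * residue S (algebraMap A[X] S t) =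
        residue S (algebraMap A[X] S s) := by
      rw [← map_mul, ← ha t.1, ← ha s, ← map_mul, IsLocalization.mk'_spec]
    have ht : residue S (algebraMap A[X] S t) ≠ 0 := fun h0 => t.2 (by
      show (t : A[X]) ∈ q
      exact (SetLike.ext_iff.1 h.origin _).1 ((residue_eq_zero_iff _).1 h0))
    rw [eq_div_iff ht |>.2 h2, hmem, hmem]
    refine ⟨residue A (s.eval 0) / residue A ((t : A[X]).eval 0), ?_⟩
    rw [map_div₀, ResidueField.map_residue, ResidueField.map_residue]
  letI : Algebra k (ResidueField S) := (ResidueField.map j).toAlgebra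
  have hsep : IsSeparable k z := by
    have hz : IsSeparable (ResidueField O) z := Algebra.IsSeparable.isSeparable (ResidueField O) z
    have hp : ((minpoly (ResidueField O) z).map (algebraMap (ResidueField O) (ResidueField S))) ∈
        Polynomial.lifts (algebraMap k (ResidueField S)) := (lifts_iff_coeff_lifts _).2 fun n => by
      rw [coeff_map]
      exact hsurj _
    obtain ⟨P, hP, -, hPm⟩ := lifts_and_natDegree_eq_and_monic hp ((minpoly.monic hz.isIntegral).map _)
    refine Polynomial.Separable.of_dvd ?_ (minpoly.dvd k z (p := P) ?_)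
    · rw [← separable_map (algebraMap k (ResidueField S)), hP, separable_map]
      exact hz
    · rw [aeval_def, ← eval_map, hP, eval_map, ← aeval_def, minpoly.aeval]
  obtain ⟨w, hw⟩ := IndEtStrict.mem_range (Algebra.ofId k (ResidueField S)) z hsep
  obtain ⟨r, rfl⟩ := IsLocalRing.residue_surjective w
  exact ⟨r, hw⟩

/-- two local maps agreeing on the polynomials are equal -/
theorem IsShLine.hom_ext (h : IsShLine A S) [IsSepClosed (ResidueField A)] {T : Type u} [CommRing T]
    [HenselianLocalRing T] (θ θ' : S →+* T) [IsLocalHom θ] [IsLocalHom θ']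
    (e : θ.comp (algebraMap A[X] S) = θ'.comp (algebraMap A[X] S)) : θ = θ' := by
  obtain ⟨a, _, ha, hS, -⟩ := h.exists_local
  let q := orig A
  let O := Localization.AtPrime q
  letI : Algebra O S := a.toAlgebra
  haveI : IsLocalHom (algebraMap O S) := ‹IsLocalHom a›
  haveI := hS
  have e' : θ.comp a = θ'.comp a := IsLocalization.ringHom_ext q.primeCompl (RingHom.ext fun p => by
    show θ (a (algebraMap A[X] O p)) = θ' (a (algebraMap A[X] O p))
    rw [ha]
    exact congr($e p))
  haveI : IsLocalHom (θ.comp a) := RingHom.isLocalHom_comp _ _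
  obtain ⟨g, -, hu⟩ := hS.universal T (θ.comp a) (ResidueField.map θ) (RingHom.ext fun c => by
    obtain ⟨r, rfl⟩ := IsLocalRing.residue_surjective c
    rfl)
  refine (hu θ ⟨rfl, fun _ => rfl⟩).trans (hu θ' ⟨e'.symm, fun x => ?_⟩).symm
  obtain ⟨r, hr⟩ := h.residue_surjective (residue S x)
  rw [← hr]
  show residue T (θ' x) = residue T (θ (algebraMap A[X] S (C r)))
  rw [show θ (algebraMap A[X] S (C r)) = θ' (algebraMap A[X] S (C r)) from congr($e (C r)),
    ← sub_eq_zero, ← map_sub, ← map_sub, residue_eq_zero_iff]
  have : x - algebraMap A[X] S (C r) ∈ maximalIdeal S := by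
    rw [← residue_eq_zero_iff, map_sub, hr, sub_self]
  exact fun hu => this (hu.of_map θ')

/-- the section -/
theorem IsShLine.exists_section (h : IsShLine A S) [HenselianLocalRing A] [IsSepClosed (ResidueField A)] :
    ∃ (σ : S →+* A) (_ : IsLocalHom σ), σ.comp (algebraMap A[X] S) = evalRingHom 0 :=
  h.exists_lift A (evalRingHom 0) rfl

omit [Algebra A[X] S] [CommRing S] [IsLocalRing S] in
/-- existence over a noetherian G-ring -/
theorem exists_shLine (A : Type u) [CommRing A] [IsLocalRing A] [IsNoetherianRing A] (hG : CAlg.IsGRing A) :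
    ∃ (S : Type u) (_ : CommRing S) (_ : IsLocalRing S) (_ : Algebra A[X] S),
      IsShLine A S ∧ IsNoetherianRing S ∧ CAlg.IsGRing S := by
  let q := orig A
  let O := Localization.AtPrime q
  obtain ⟨S, _, _, _, hl, hS⟩ := S0537.result O
  haveI := hl
  haveI := hS
  letI : Algebra A[X] S := ((algebraMap O S).comp (algebraMap A[X] O)).toAlgebra
  haveI : IsScalarTower A[X] O S := IsScalarTower.of_algebraMap_eq fun _ => rfl
  haveI : IsNoetherianRing O := IsLocalization.isNoetherianRing q.primeCompl O inferInstance
  have hGO : CAlg.IsGRing O := CplFib6.isGRing_localization (CplFib6.isGRing_polynomial hG) q.primeCompl O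
  refine ⟨S, inferInstance, inferInstance, inferInstance, ⟨hS.henselian, hS.isSepClosure.sep_closed, ?_, ?_⟩, ?_,
    S2046.result hGO⟩
  · exact S0734.result A[X] O S
      (IndZarLib.isIndEtale_of_isIndZariski (IndEtLib.isIndZariski_localization q.primeCompl O)) (S12237.result O S)
  · have h04 : (maximalIdeal S).comap (algebraMap O S) = maximalIdeal O := by
      ext z
      exact ⟨fun hz hu => hz (hu.map _), fun hz hu => hz (hl.map_nonunit z hu)⟩
    rw [show algebraMap A[X] S = (algebraMap O S).comp (algebraMap A[X] O) from rfl, ← Ideal.comap_comap, h04]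
    exact IsLocalization.AtPrime.comap_maximalIdeal O q
  · obtain ⟨e⟩ := Hensel.exists_algEquiv_strictHenz O S
    haveI : IsNoetherianRing (Hensel.Henz O (SeparableClosure (ResidueField O))) := Hensel.isNoetherianRing_henz
    exact isNoetherianRing_of_ringEquiv _ e.toRingEquiv

end Groth.Agent.SmAcyc
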